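import Mathlib
import Cfsg.Agent.Lib.PGroup.Basic
import Cfsg.Agent.Lib.PGroup.MacWilliams.Frame

/-!
Displacement maps, generating criteria and 2-groups with a small centralizer of an involution.
-/

set_option autoImplicit false

namespace CfsgLib.PGroup.SelfEight

open Subgroup CfsgLib.PGroup.MacWilliams

universe u

variable {G : Type u} [Group G]

/-- The displacement of `w` under conjugation by `g`. -/
def dd (g w : G) : G := g * w * g⁻¹ * w⁻¹

theorem dd_eq_one {g w : G} : dd g w = 1 ↔ g * w = w * g := by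
  rw [dd, mul_inv_eq_one, mul_inv_eq_iff_eq_mul]

theorem dd_inv (g w : G) : (dd g w)⁻¹ = dd w g := by simp only [dd]; group

theorem dd_mem_symm {N : Subgroup G} {g w : G} (h : dd g w ∈ N) : dd w g ∈ N := dd_inv g w ▸ N.inv_mem h

theorem conj_eq (g w : G) : g * w * g⁻¹ = dd g w * w := by simp only [dd]; group

theorem mem_cent {a g : G} : g ∈ centralizer ({a} : Set G) ↔ a * g = g * a := by
  simp [mem_centralizer_iff]

theorem mem_cent_of_le_closure {A : Subgroup G} {S : Set G} (hA : A ≤ closure S) {g : G}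
    (h : ∀ s ∈ S, g * s = s * g) : g ∈ centralizer (A : Set G) := by
  have h1 : closure S ≤ centralizer ({g} : Set G) := (closure_le _).2 fun s hs => mem_cent.2 (h s hs)
  exact mem_centralizer_iff.2 fun a ha => (mem_cent.1 (h1 (hA ha))).symm

theorem mk_eq_mk {W : Subgroup G} [W.Normal] {g h : G} :
    QuotientGroup.mk' W g = QuotientGroup.mk' W h ↔ g⁻¹ * h ∈ W := QuotientGroup.eq

theorem mk_comm {W : Subgroup G} [W.Normal] {g h : G} :
    QuotientGroup.mk' W g * QuotientGroup.mk' W h = QuotientGroup.mk' W h * QuotientGroup.mk' W g ↔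
      dd g h ∈ W := by
  rw [← dd_eq_one, ← QuotientGroup.eq_one_iff (N := W)]
  simp [dd]

section count

variable [Finite G]

theorem le_of_card {K D : Subgroup G} (hKD : K ≤ D) (h : Nat.card D ≤ Nat.card K) : D ≤ K :=
  (eq_of_le_of_card_ge hKD h).ge

theorem two_mul_card_le {K L : Subgroup G} (hKL : K ≤ L) {x : G} (hx : x ∈ L) (hxK : x ∉ K) :
    2 * Nat.card K ≤ Nat.card L := by
  obtain ⟨q, hq⟩ := Subgroup.card_dvd_of_le hKL
  have h0 : 0 < Nat.card L := Nat.card_pos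
  rcases q with _ | _ | q
  · rw [hq] at h0; simp at h0
  · exact absurd (le_of_card hKL (by rw [hq, zero_add, mul_one]) hx) hxK
  · rw [hq, mul_comm]
    exact Nat.mul_le_mul le_rfl (by omega)

theorem step {K D : Subgroup G} (hKD : K ≤ D) (m : ℕ) (h : Nat.card D ≤ 2 * m * Nat.card K) :
    ∃ x ∈ D, K ⊔ zpowers x ≤ D ∧ Nat.card D ≤ m * Nat.card ↥(K ⊔ zpowers x) := by
  by_cases hD : D ≤ K
  · refine ⟨1, D.one_mem, by simpa using hKD, ?_⟩
    have h0 : 0 < Nat.card D := Nat.card_pos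
    rcases m with _ | m
    · simp at h; omega
    · rw [zpowers_one_eq_bot, sup_bot_eq, le_antisymm hKD hD]
      exact Nat.le_mul_of_pos_left _ (Nat.succ_pos m)
  · obtain ⟨x, hx, hxK⟩ := SetLike.not_le_iff_exists.1 hD
    refine ⟨x, hx, sup_le hKD (zpowers_le.2 hx), h.trans ?_⟩
    rw [mul_comm 2, mul_assoc]
    exact Nat.mul_le_mul le_rfl
      (two_mul_card_le le_sup_left ((le_sup_right : zpowers x ≤ K ⊔ zpowers x) (mem_zpowers x)) hxK)

theorem card_le_two_mul {M N : Subgroup G} (g₀ : G) (h : ∀ g ∈ M, g ∈ N ∨ g₀⁻¹ * g ∈ N) :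
    Nat.card M ≤ 2 * Nat.card N := by
  classical
  let f : M → Bool × N := fun g =>
    if hg : (g : G) ∈ N then (false, ⟨g, hg⟩) else (true, ⟨g₀⁻¹ * g, (h g g.2).resolve_left hg⟩)
  have hf : Function.Injective f := by
    intro g g' e
    simp only [f] at e
    split_ifs at e with h1 h2 h3 <;> simp at e
    · exact e
    · exact e
  have := Nat.card_le_card_of_injective f hf
  rwa [Nat.card_prod, Nat.card_eq_fintype_card (α := Bool), Fintype.card_bool] at this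

theorem mul_mem_of_two {M N : Subgroup G} (hNM : N ≤ M) (h : Nat.card M ≤ 2 * Nat.card N) {a b : G}
    (ha : a ∈ M) (haN : a ∉ N) (hb : b ∈ M) (hbN : b ∉ N) : a * b ∈ N := by
  have hle : (N.subgroupOf M).index = 2 := by
    have h1 := (N.subgroupOf M).card_mul_index
    have h2 : Nat.card (N.subgroupOf M) = Nat.card N := Nat.card_congr (subgroupOfEquivOfLe hNM).toEquiv
    rw [h2] at h1
    have h3 : (N.subgroupOf M).index ≠ 1 := fun e => haN (by
      have : (⟨a, ha⟩ : M) ∈ N.subgroupOf M := (index_eq_one.1 e) ▸ mem_top _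
      exact this)
    have h4 : (N.subgroupOf M).index ≠ 0 := index_ne_zero_of_finite
    have h5 : 0 < Nat.card N := Nat.card_pos
    rw [← h1, mul_comm 2] at h
    have := Nat.le_of_mul_le_mul_left h h5
    omega
  exact (mul_mem_iff_of_index_two hle (a := (⟨a, ha⟩ : M)) (b := ⟨b, hb⟩)).2
    (iff_of_false haN hbN)

theorem mem_sup_two {K : Subgroup G} {x : G} (hn : ∀ k ∈ K, x * k * x⁻¹ ∈ K) (hx : x * x ∈ K) {g : G}
    (hg : g ∈ K ⊔ zpowers x) : g ∈ K ∨ x⁻¹ * g ∈ K := by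
  rw [zpowers_eq_closure, ← closure_eq K, ← Subgroup.closure_union] at hg
  have hn' : ∀ k ∈ K, x⁻¹ * k * x ∈ K := fun k hk => by
    have h2 := K.mul_mem (K.mul_mem (K.inv_mem hx) (hn k hk)) hx
    rwa [show (x * x)⁻¹ * (x * k * x⁻¹) * (x * x) = x⁻¹ * k * x by group] at h2
  induction hg using closure_induction with
  | mem y hy =>
    rcases hy with hy | hy
    · exact Or.inl hy
    · rw [Set.mem_singleton_iff] at hy
      exact Or.inr (by rw [hy, inv_mul_cancel]; exact K.one_mem)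
  | one => exact Or.inl K.one_mem
  | mul y z _ _ hy hz =>
    rcases hy with hy | hy <;> rcases hz with hz | hz
    · exact Or.inl (K.mul_mem hy hz)
    · refine Or.inr ?_
      have := K.mul_mem (hn' y hy) hz
      rwa [show x⁻¹ * y * x * (x⁻¹ * z) = x⁻¹ * (y * z) by group] at this
    · refine Or.inr ?_
      have := K.mul_mem hy hz
      rwa [show x⁻¹ * y * z = x⁻¹ * (y * z) by group] at this
    · refine Or.inl ?_
      have := K.mul_mem (K.mul_mem (hn _ hy) hx) hz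
      rwa [show x * (x⁻¹ * y) * x⁻¹ * (x * x) * (x⁻¹ * z) = y * z by group] at this
  | inv y _ hy =>
    rcases hy with hy | hy
    · exact Or.inl (K.inv_mem hy)
    · refine Or.inr ?_
      have := K.mul_mem (hn' _ (K.inv_mem hy)) (K.inv_mem hx)
      rwa [show x⁻¹ * (x⁻¹ * y)⁻¹ * x * (x * x)⁻¹ = x⁻¹ * y⁻¹ by group] at this

theorem card_sup_two {K : Subgroup G} {x : G} (hn : ∀ k ∈ K, x * k * x⁻¹ ∈ K) (hx : x * x ∈ K) :
    Nat.card ↥(K ⊔ zpowers x) ≤ 2 * Nat.card K :=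
  card_le_two_mul x fun _ hg => mem_sup_two hn hx hg

theorem card_zpowers_invol {z : G} (hz : z * z = 1) (hz1 : z ≠ 1) : Nat.card (zpowers z) = 2 := by
  rw [Nat.card_zpowers]
  exact orderOf_eq_prime (by rw [pow_two, hz]) hz1

theorem mem_zpowers_invol {z g : G} (hz : z * z = 1) (hg : g ∈ zpowers z) : g = 1 ∨ g = z := by
  have h := mem_sup_two (K := (⊥ : Subgroup G)) (x := z) (by simp) (by simpa using hz) (g := g) (by simpa using hg)
  rcases h with h | h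
  · exact Or.inl (mem_bot.1 h)
  · exact Or.inr (inv_mul_eq_one.1 (mem_bot.1 h)).symm

/-- An element central modulo a normal subgroup. -/
theorem exists_central_mod (hP : IsPGroup 2 G) {N M : Subgroup G} [N.Normal] [M.Normal] (h : ¬M ≤ N) :
    ∃ y ∈ M, y ∉ N ∧ (∀ s, dd s y ∈ N) ∧ y * y ∈ N := by
  haveI : Fact (Nat.Prime 2) := ⟨Nat.prime_two⟩
  haveI : (M.map (QuotientGroup.mk' N)).Normal :=
    (inferInstance : M.Normal).map _ (QuotientGroup.mk'_surjective N)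
  have hne : M.map (QuotientGroup.mk' N) ≠ ⊥ := fun e => h (by
    rwa [Subgroup.map_eq_bot_iff, QuotientGroup.ker_mk'] at e)
  obtain ⟨q, hq, hqo⟩ := exists_orderOf_eq (hP.to_quotient N) (inf_center_ne_bot (hP.to_quotient N) _ hne)
  obtain ⟨y, hy, rfl⟩ := hq.1
  refine ⟨y, hy, fun hyN => ?_, fun s => mk_comm.1 (mem_center_iff.1 hq.2 _), ?_⟩
  · rw [show QuotientGroup.mk' N y = 1 from (QuotientGroup.eq_one_iff y).2 hyN, orderOf_one] at hqo
    norm_num at hqo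
  · refine (QuotientGroup.eq_one_iff _).1 ?_
    show QuotientGroup.mk' N (y * y) = 1
    rw [map_mul, ← pow_two, ← hqo, pow_orderOf_eq_one]

/-- A map separating the cosets of `N` bounds the image. -/
theorem card_map_le_of_sep {β : Type*} [Finite β] {T N : Subgroup G} [N.Normal] (f : G → β)
    (h : ∀ g ∈ T, ∀ g' ∈ T, f g = f g' → g⁻¹ * g' ∈ N) :
    Nat.card ↥(T.map (QuotientGroup.mk' N)) ≤ Nat.card β := by
  refine Nat.card_le_card_of_injective (fun q => f (Subgroup.mem_map.1 q.2).choose) fun q q' e => Subtype.ext ?_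
  obtain ⟨h1, h2⟩ := (Subgroup.mem_map.1 q.2).choose_spec
  obtain ⟨h1', h2'⟩ := (Subgroup.mem_map.1 q'.2).choose_spec
  rw [← h2, ← h2']
  exact mk_eq_mk.2 (h _ h1 _ h1' e)

theorem card_map_mul_inf (M N : Subgroup G) [N.Normal] :
    Nat.card ↥(M.map (QuotientGroup.mk' N)) * Nat.card ↥(M ⊓ N) = Nat.card M := by
  let f := (QuotientGroup.mk' N).comp M.subtype
  have h1 : Nat.card f.range = Nat.card ↥(M.map (QuotientGroup.mk' N)) := by
    rw [MonoidHom.range_comp, range_subtype]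
  have h2 : Nat.card f.ker = Nat.card ↥(M ⊓ N) := by
    rw [← card_map_of_injective M.subtype_injective (K := f.ker)]
    congr 2
    ext v
    simp [f, Subgroup.mem_map, and_comm]
  rw [← h1, ← h2, ← index_ker, mul_comm, card_mul_index]

end count

/-- A normal elementary abelian 2-subgroup. -/
structure Elem (W : Subgroup G) : Prop where
  normal : W.Normal
  comm : ∀ a ∈ W, ∀ b ∈ W, a * b = b * a
  sq : ∀ a ∈ W, a * a = 1

namespace Elem

variable {W : Subgroup G}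

theorem inv_eq (e : Elem W) {w : G} (hw : w ∈ W) : w⁻¹ = w := inv_eq_of_mul_eq_one_right (e.sq w hw)

theorem dd_mem (e : Elem W) (g : G) {w : G} (hw : w ∈ W) : dd g w ∈ W :=
  W.mul_mem (e.normal.conj_mem w hw g) (W.inv_mem hw)

theorem dd_mem' (e : Elem W) (g : G) {w : G} (hw : w ∈ W) : dd w g ∈ W :=
  dd_mem_symm (e.dd_mem g hw)

theorem dd_symm (e : Elem W) (g : G) {w : G} (hw : w ∈ W) : dd w g = dd g w := by
  rw [← dd_inv, e.inv_eq (e.dd_mem g hw)]

theorem dd_mul (e : Elem W) (g : G) {u v : G} (hu : u ∈ W) (hv : v ∈ W) :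
    dd g (u * v) = dd g u * dd g v := by
  have h1 := e.comm _ (W.inv_mem hu) _ (e.dd_mem g hv)
  calc dd g (u * v) = g * u * g⁻¹ * (dd g v * u⁻¹) := by simp only [dd]; group
    _ = g * u * g⁻¹ * (u⁻¹ * dd g v) := by rw [h1]
    _ = dd g u * dd g v := by simp only [dd]; group

/-- The displacement homomorphism on a subgroup of `W`. -/
def dHom (e : Elem W) {D : Subgroup G} (hD : D ≤ W) (g : G) : D →* W :=
  MonoidHom.mk' (fun w => ⟨dd g w, e.dd_mem g (hD w.2)⟩) fun u v => Subtype.ext (e.dd_mul g (hD u.2) (hD v.2))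

/-- The set of displacements of a subgroup of `W`. -/
def rng (e : Elem W) {D : Subgroup G} (hD : D ≤ W) (g : G) : Subgroup G := (e.dHom hD g).range.map W.subtype

theorem mem_rng (e : Elem W) {D : Subgroup G} (hD : D ≤ W) {g v : G} :
    v ∈ e.rng hD g ↔ ∃ w ∈ D, dd g w = v := by
  constructor
  · rintro ⟨_, ⟨w, rfl⟩, rfl⟩
    exact ⟨w, w.2, rfl⟩
  · rintro ⟨w, hw, rfl⟩
    exact ⟨_, ⟨⟨w, hw⟩, rfl⟩, rfl⟩

theorem rng_le (e : Elem W) {D : Subgroup G} (hD : D ≤ W) (g : G) : e.rng hD g ≤ W := by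
  intro v hv
  obtain ⟨w, hw, rfl⟩ := (e.mem_rng hD).1 hv
  exact e.dd_mem g (hD hw)

theorem card_split (e : Elem W) {D : Subgroup G} (hD : D ≤ W) (g : G) :
    Nat.card ↥(D ⊓ centralizer ({g} : Set G)) * Nat.card ↥(e.rng hD g) = Nat.card D := by
  have h1 : Nat.card ↥(e.rng hD g) = Nat.card (e.dHom hD g).range :=
    card_map_of_injective W.subtype_injective
  have h2 : Nat.card (e.dHom hD g).ker = Nat.card ↥(D ⊓ centralizer ({g} : Set G)) := by
    rw [← card_map_of_injective D.subtype_injective (K := (e.dHom hD g).ker)]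
    congr 2
    ext v
    constructor
    · rintro ⟨w, hw, rfl⟩
      exact ⟨w.2, mem_cent.2 (dd_eq_one.1 (congrArg Subtype.val (show e.dHom hD g w = 1 from hw)))⟩
    · rintro ⟨hv, hv'⟩
      exact ⟨⟨v, hv⟩, Subtype.ext (dd_eq_one.2 (mem_cent.1 hv')), rfl⟩
  rw [h1, ← h2, ← index_ker, card_mul_index]

theorem rng_le_fix (e : Elem W) {D : Subgroup G} (hD : D ≤ W) {a : G} (ha : a * a = 1) :
    e.rng hD a ≤ W ⊓ centralizer ({a} : Set G) := by
  intro v hv
  refine ⟨e.rng_le hD a hv, mem_cent.2 ?_⟩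
  obtain ⟨w, hw, rfl⟩ := (e.mem_rng hD).1 hv
  have hai : a⁻¹ = a := inv_eq_of_mul_eq_one_right ha
  have h1 : a * dd a w * a⁻¹ = (dd a w)⁻¹ := by
    simp only [dd, hai, mul_inv_rev, inv_inv]
    rw [show a * (a * w * a * w⁻¹) * a = a * a * (w * a * w⁻¹ * a) by group, ha, one_mul]
    group
  rw [e.inv_eq (e.dd_mem a (hD hw))] at h1
  exact mul_inv_eq_iff_eq_mul.1 h1

theorem card_le_sq (e : Elem W) [Finite G] {a : G} (ha : a * a = 1) :
    Nat.card W ≤ Nat.card ↥(W ⊓ centralizer ({a} : Set G)) * Nat.card ↥(W ⊓ centralizer ({a} : Set G)) := by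
  have h := e.card_split le_rfl a
  have h2 := Subgroup.card_le_of_le (e.rng_le_fix le_rfl ha)
  calc Nat.card W = _ := h.symm
    _ ≤ _ := Nat.mul_le_mul le_rfl h2

end Elem

/-! ### Generation by four elements -/

variable [Finite G]

theorem four_core (hP : IsPGroup 2 G) {H : Subgroup G} {a b c d : G} (ha : a ∈ H) (hb : b ∈ H) (hc : c ∈ H)
    (hd : d ∈ H) (h : ∀ M : Subgroup G, M ≤ H → (∀ g ∈ H, g * g ∈ M) → a ∈ M → b ∈ M → c ∈ M → d ∈ M → H ≤ M) :
    Four H := by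
  haveI : Fact (Nat.Prime 2) := ⟨Nat.prime_two⟩
  refine ⟨a, b, c, d, ha, hb, hc, hd, ?_⟩
  set K := closure ({a, b, c, d} : Set G)
  rcases eq_top_or_exists_le_coatom (K.subgroupOf H) with he | ⟨N, hN, hKN⟩
  · exact subgroupOf_eq_top.1 he
  exfalso
  have hmem : ∀ x ∈ ({a, b, c, d} : Set G), ∀ hx : x ∈ H, x ∈ N.map H.subtype :=
    fun x hx hxH => ⟨⟨x, hxH⟩, hKN (subset_closure hx), rfl⟩
  have hle := h (N.map H.subtype) (map_subtype_le N)
    (fun g hg => ⟨⟨g * g, H.mul_mem hg hg⟩, by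
      have := pow_mem_of_isCoatom (hP.to_subgroup H) hN ⟨g, hg⟩
      rw [pow_two] at this
      exact this, rfl⟩)
    (hmem a (by simp) ha) (hmem b (by simp) hb) (hmem c (by simp) hc) (hmem d (by simp) hd)
  refine hN.1 (eq_top_iff.2 fun g _ => ?_)
  obtain ⟨g', hg', e⟩ := hle g.2
  exact Subtype.ext e ▸ hg'

/-- Membership forced by containing all squares of `H`. -/
theorem dd_mem_of_sq {H M : Subgroup G} (hsq : ∀ g ∈ H, g * g ∈ M) {g h : G} (hg : g ∈ H) (hh : h ∈ H) :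
    dd g h ∈ M := by
  have h1 := M.mul_mem (M.mul_mem (hsq _ (H.mul_mem hg hh))
    (hsq _ (H.mul_mem (H.mul_mem (H.inv_mem hh) (H.inv_mem hg)) hh))) (hsq _ (H.inv_mem hh))
  rwa [show g * h * (g * h) * (h⁻¹ * g⁻¹ * h * (h⁻¹ * g⁻¹ * h)) * (h⁻¹ * h⁻¹) = dd g h by
    simp only [dd]; group] at h1

theorem le_of_cover {H M W : Subgroup G} {S : Set G} (hMH : M ≤ H) (hS : S ⊆ M)
    (hcov : ∀ h ∈ H, ∃ k ∈ closure S, k⁻¹ * h ∈ W) (hW : H ⊓ W ≤ M) : H ≤ M := by
  intro h hh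
  obtain ⟨k, hk, hkW⟩ := hcov h hh
  have hkM : k ∈ M := (closure_le M).2 hS hk
  have := M.mul_mem hkM (hW ⟨H.mul_mem (H.inv_mem (hMH hkM)) hh, hkW⟩)
  rwa [mul_inv_cancel_left] at this

theorem cover_of_image {H W : Subgroup G} [W.Normal] {S : Set G}
    (h : H.map (QuotientGroup.mk' W) ≤ closure (QuotientGroup.mk' W '' S)) :
    ∀ g ∈ H, ∃ k ∈ closure S, k⁻¹ * g ∈ W := by
  intro g hg
  have h1 := h (Subgroup.mem_map_of_mem _ hg)
  rw [← MonoidHom.map_closure] at h1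
  obtain ⟨k, hk, e⟩ := h1
  exact ⟨k, hk, mk_eq_mk.1 e⟩

variable (hP : IsPGroup 2 G)

include hP in
theorem four_zero {H W : Subgroup G} (hHW : H ≤ W) (h : Nat.card W ≤ 16) : Four H := by
  have hc : Nat.card H ≤ 2 * 8 * Nat.card (⊥ : Subgroup G) := by
    rw [card_bot]; exact (Subgroup.card_le_of_le hHW).trans h
  obtain ⟨x₁, hx₁, l₁, c₁⟩ := step bot_le 8 hc
  obtain ⟨x₂, hx₂, l₂, c₂⟩ := step l₁ 4 c₁
  obtain ⟨x₃, hx₃, l₃, c₃⟩ := step l₂ 2 c₂
  obtain ⟨x₄, hx₄, l₄, c₄⟩ := step l₃ 1 c₃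
  rw [one_mul] at c₄
  exact four_core hP hx₁ hx₂ hx₃ hx₄ fun M _ _ h1 h2 h3 h4 => (le_of_card l₄ c₄).trans
    (sup_le (sup_le (sup_le (sup_le bot_le (zpowers_le.2 h1)) (zpowers_le.2 h2)) (zpowers_le.2 h3))
      (zpowers_le.2 h4))

include hP in
theorem four_one {H W K : Subgroup G} {g : G} (hg : g ∈ H)
    (hcov : ∀ h ∈ H, ∃ k ∈ closure ({g} : Set G), k⁻¹ * h ∈ W) (hKD : K ≤ H ⊓ W)
    (hK : ∀ M : Subgroup G, M ≤ H → (∀ x ∈ H, x * x ∈ M) → K ≤ M)
    (hcard : Nat.card ↥(H ⊓ W) ≤ 8 * Nat.card K) : Four H := by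
  obtain ⟨x₁, hx₁, l₁, c₁⟩ := step hKD 4 hcard
  obtain ⟨x₂, hx₂, l₂, c₂⟩ := step l₁ 2 c₁
  obtain ⟨x₃, hx₃, l₃, c₃⟩ := step l₂ 1 c₂
  rw [one_mul] at c₃
  exact four_core hP hg hx₁.1 hx₂.1 hx₃.1 fun M hM hsq h0 h1 h2 h3 => le_of_cover hM
    (Set.singleton_subset_iff.2 h0) hcov ((le_of_card l₃ c₃).trans
    (sup_le (sup_le (sup_le (hK M hM hsq) (zpowers_le.2 h1)) (zpowers_le.2 h2)) (zpowers_le.2 h3)))

include hP in
theorem four_two {H W K : Subgroup G} {g₁ g₂ : G} (hg₁ : g₁ ∈ H) (hg₂ : g₂ ∈ H)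
    (hcov : ∀ h ∈ H, ∃ k ∈ closure ({g₁, g₂} : Set G), k⁻¹ * h ∈ W) (hKD : K ≤ H ⊓ W)
    (hK : ∀ M : Subgroup G, M ≤ H → (∀ x ∈ H, x * x ∈ M) → K ≤ M)
    (hcard : Nat.card ↥(H ⊓ W) ≤ 4 * Nat.card K) : Four H := by
  obtain ⟨x₁, hx₁, l₁, c₁⟩ := step hKD 2 hcard
  obtain ⟨x₂, hx₂, l₂, c₂⟩ := step l₁ 1 c₁
  rw [one_mul] at c₂
  exact four_core hP hg₁ hg₂ hx₁.1 hx₂.1 fun M hM hsq h0 h0' h1 h2 => le_of_cover hM
    (Set.insert_subset h0 (Set.singleton_subset_iff.2 h0')) hcov ((le_of_card l₂ c₂).trans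
    (sup_le (sup_le (hK M hM hsq) (zpowers_le.2 h1)) (zpowers_le.2 h2)))

include hP in
theorem four_three {H W K : Subgroup G} {g₁ g₂ g₃ : G} (hg₁ : g₁ ∈ H) (hg₂ : g₂ ∈ H) (hg₃ : g₃ ∈ H)
    (hcov : ∀ h ∈ H, ∃ k ∈ closure ({g₁, g₂, g₃} : Set G), k⁻¹ * h ∈ W) (hKD : K ≤ H ⊓ W)
    (hK : ∀ M : Subgroup G, M ≤ H → (∀ x ∈ H, x * x ∈ M) → K ≤ M)
    (hcard : Nat.card ↥(H ⊓ W) ≤ 2 * Nat.card K) : Four H := by
  obtain ⟨x₁, hx₁, l₁, c₁⟩ := step hKD 1 hcard
  rw [one_mul] at c₁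
  exact four_core hP hg₁ hg₂ hg₃ hx₁.1 fun M hM hsq h0 h0' h0'' h1 => le_of_cover hM
    (Set.insert_subset h0 (Set.insert_subset h0' (Set.singleton_subset_iff.2 h0''))) hcov
    ((le_of_card l₁ c₁).trans (sup_le (hK M hM hsq) (zpowers_le.2 h1)))

end CfsgLib.PGroup.SelfEight
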