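import Mathlib
import Cfsg.Agent.Lib.PGroup.SelfCentralEight.Tools

/-!
2-groups with an element of order at most two whose centralizer has order at most four.
-/

set_option autoImplicit false

namespace CfsgLib.PGroup.SelfEight

open Subgroup

universe u

theorem invol_unique {G : Type u} [Group G] [Finite G] {r u v : G} (hu : u ∈ zpowers r) (hv : v ∈ zpowers r)
    (hu2 : u * u = 1) (hv2 : v * v = 1) (hu1 : u ≠ 1) (hv1 : v ≠ 1) : u = v := by
  obtain ⟨i, rfl⟩ := mem_zpowers_iff.1 hu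
  obtain ⟨j, rfl⟩ := mem_zpowers_iff.1 hv
  rw [← zpow_add, ← orderOf_dvd_iff_zpow_eq_one] at hu2 hv2
  rw [ne_eq, ← orderOf_dvd_iff_zpow_eq_one] at hu1 hv1
  obtain ⟨p, hp⟩ := hu2
  obtain ⟨q, hq⟩ := hv2
  rcases Int.even_or_odd p with ⟨p', hp'⟩ | ⟨p', hp'⟩
  · refine absurd ⟨p', ?_⟩ hu1
    rw [hp', mul_add] at hp; omega
  rcases Int.even_or_odd q with ⟨q', hq'⟩ | ⟨q', hq'⟩
  · refine absurd ⟨q', ?_⟩ hv1
    rw [hq', mul_add] at hq; omega
  rw [← mul_inv_eq_one, ← zpow_neg, ← zpow_add, ← orderOf_dvd_iff_zpow_eq_one]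
  refine ⟨p' - q', ?_⟩
  rw [hp', mul_add, mul_one, mul_left_comm] at hp
  rw [hq', mul_add, mul_one, mul_left_comm] at hq
  rw [mul_sub]
  omega

theorem almost_cyclic_aux : ∀ (n : ℕ) (X : Type u) [Group X] [Finite X], Nat.card X = n → IsPGroup 2 X →
    ∀ a : X, a * a = 1 → Nat.card ↥(centralizer ({a} : Set X)) ≤ 4 →
    Nat.card X ≤ 4 ∨ ∃ r : X, (zpowers r).index ≤ 2 := by
  intro n
  induction n using Nat.strong_induction_on with
  | _ n ih =>
  intro X _ _ hn h2 a ha hC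
  haveI : Fact (Nat.Prime 2) := ⟨Nat.prime_two⟩
  rcases le_or_gt (Nat.card X) 4 with h4 | h4
  · exact Or.inl h4
  rcases le_or_gt (Nat.card X) 8 with h8 | h8
  · -- order eight
    by_cases hexp : ∀ g : X, g * g = 1
    · exfalso
      have hcom : ∀ g h : X, g * h = h * g := fun g h => by
        calc g * h = (g * h)⁻¹ := (inv_eq_of_mul_eq_one_right (hexp _)).symm
          _ = h * g := by rw [mul_inv_rev, inv_eq_of_mul_eq_one_right (hexp g),
              inv_eq_of_mul_eq_one_right (hexp h)]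
      have htop : centralizer ({a} : Set X) = ⊤ := eq_top_iff.2 fun g _ => mem_cent.2 (hcom a g)
      rw [htop, card_top] at hC
      omega
    push_neg at hexp
    obtain ⟨g, hg⟩ := hexp
    refine Or.inr ⟨g, ?_⟩
    obtain ⟨k, hk⟩ := IsPGroup.iff_orderOf.1 h2 g
    have h4g : 4 ≤ orderOf g := by
      rcases k with _ | _ | k
      · rw [pow_zero, orderOf_eq_one_iff] at hk; rw [hk, one_mul] at hg; exact absurd rfl hg
      · rw [zero_add, pow_one] at hk
        exact absurd (by rw [← pow_two, ← hk, pow_orderOf_eq_one]) hg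
      · rw [hk, pow_succ, pow_succ]
        have := Nat.one_le_two_pow (n := k)
        omega
    have := (zpowers g).card_mul_index
    rw [Nat.card_zpowers] at this
    by_contra! h3
    have := Nat.mul_le_mul h4g h3
    omega
  haveI : Nontrivial X := Finite.one_lt_card_iff_nontrivial.1 (by omega)
  obtain ⟨z, hz, hzo⟩ := exists_orderOf_eq h2 (H := center X)
    (fun e => by
      have := inf_center_ne_bot h2 (⊤ : Subgroup X) top_ne_bot
      rw [top_inf_eq] at this
      exact this e)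
  have hz2 : z * z = 1 := by rw [← pow_two, ← hzo, pow_orderOf_eq_one]
  have hz1 : z ≠ 1 := fun e => by rw [e, orderOf_one] at hzo; norm_num at hzo
  have hzc : ∀ g : X, g * z = z * g := mem_center_iff.1 hz
  set Z := zpowers z
  have hZn : Z.Normal := ⟨fun k hk g => by
    rw [mem_center_iff.1 (zpowers_le.2 hz hk) g, mul_inv_cancel_right]; exact hk⟩
  have hZ : Nat.card Z = 2 := card_zpowers_invol hz2 hz1
  set q := QuotientGroup.mk' Z
  have hcardq : Nat.card X = Nat.card (X ⧸ Z) * 2 := hZ ▸ card_eq_card_quotient_mul_card_subgroup Z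
  have hCq : Nat.card ↥(centralizer ({q a} : Set (X ⧸ Z))) ≤ 4 := by
    set Q := centralizer ({q a} : Set (X ⧸ Z))
    have hpre : Nat.card ↥(Q.comap q) = Nat.card Q * 2 := by
      have h1 := card_map_mul_inf (Q.comap q) Z
      rw [map_comap_eq_self_of_surjective (QuotientGroup.mk'_surjective Z), inf_eq_right.2 (fun k hk => by
        show q k ∈ Q
        rw [show q k = 1 from (QuotientGroup.eq_one_iff k).2 hk]
        exact Q.one_mem), hZ] at h1
      exact h1.symm
    have hmem : ∀ g ∈ Q.comap q, dd a g = 1 ∨ dd a g = z := fun g hg =>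
      mem_zpowers_invol hz2 (mk_comm.1 (mem_cent.1 (show q g ∈ Q from hg)))
    have hle : Nat.card ↥(Q.comap q) ≤ 2 * Nat.card ↥(centralizer ({a} : Set X)) := by
      by_cases hg : ∃ g₀ ∈ Q.comap q, dd a g₀ = z
      · obtain ⟨g₀, hg₀, e₀⟩ := hg
        refine card_le_two_mul g₀ fun g hg => ?_
        rcases hmem g hg with e | e
        · exact Or.inl (mem_cent.2 (dd_eq_one.1 e))
        · refine Or.inr (mem_cent.2 ?_)
          have h1 : a * g * a⁻¹ = z * g := by rw [conj_eq, e]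
          have h2 : a * g₀⁻¹ * a⁻¹ = g₀⁻¹ * z⁻¹ := by
            rw [show a * g₀⁻¹ * a⁻¹ = (a * g₀ * a⁻¹)⁻¹ by group, conj_eq, e₀, mul_inv_rev]
          rw [← mul_inv_eq_iff_eq_mul, show a * (g₀⁻¹ * g) * a⁻¹ = a * g₀⁻¹ * a⁻¹ * (a * g * a⁻¹) by group,
            h1, h2, mul_assoc, inv_mul_cancel_left]
      · push_neg at hg
        refine card_le_two_mul 1 fun g hg' => Or.inl (mem_cent.2 (dd_eq_one.1 ?_))
        exact (hmem g hg').resolve_right (hg g hg')
    omega
  rcases ih _ (by omega) (X ⧸ Z) rfl (h2.to_quotient _) (q a) (by rw [← map_mul, ha, map_one]) hCq with h | ⟨r, hr⟩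
  · omega
  obtain ⟨r, rfl⟩ := QuotientGroup.mk'_surjective Z r
  rw [← MonoidHom.map_zpowers, ← index_comap_of_surjective _ (QuotientGroup.mk'_surjective Z), comap_map_eq,
    QuotientGroup.ker_mk'] at hr
  by_cases hzr : z ∈ zpowers r
  · exact Or.inr ⟨r, by rwa [sup_eq_left.2 (zpowers_le.2 hzr)] at hr⟩
  set R := zpowers r ⊔ Z
  have hdec : ∀ g ∈ R, g ∈ zpowers r ∨ z⁻¹ * g ∈ zpowers r := fun g hg =>
    mem_sup_two (fun k hk => by rwa [← hzc k, mul_inv_cancel_right]) (by rw [hz2]; exact one_mem _) hg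
  have hRc : Nat.card R ≤ 2 * orderOf r := by
    rw [← Nat.card_zpowers]
    exact card_sup_two (fun k hk => by rwa [← hzc k, mul_inv_cancel_right]) (by rw [hz2]; exact one_mem _)
  have hR4 : 4 < Nat.card R := by
    have h1 := R.card_mul_index
    by_contra! h3
    have := Nat.mul_le_mul h3 hr
    omega
  have haR : a ∉ R := by
    intro haR
    have hr' : R ≤ centralizer ({r} : Set X) :=
      sup_le (zpowers_le.2 (mem_cent.2 rfl)) (zpowers_le.2 (mem_cent.2 (hzc r)))
    have hRC : R ≤ centralizer ({a} : Set X) :=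
      sup_le (zpowers_le.2 (mem_cent.2 (mem_cent.1 (hr' haR)).symm)) (zpowers_le.2 (mem_cent.2 (hzc a)))
    have := Subgroup.card_le_of_le hRC
    omega
  haveI hRn : R.Normal := normal_of_index_eq_two (by
    have : R.index ≠ 1 := fun e => haR ((index_eq_one.1 e).ge (mem_top a))
    have := R.index_ne_zero_of_finite
    omega)
  have hr2 : zpowers (r * r) ≠ ⊥ := by
    rw [Ne, zpowers_eq_bot]
    intro e
    have := Nat.le_of_dvd two_pos (orderOf_dvd_of_pow_eq_one (show r ^ 2 = 1 by rw [pow_two, e]))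
    omega
  obtain ⟨e, he, heo⟩ := exists_orderOf_eq h2 hr2
  have he1 : e ≠ 1 := fun e1 => by rw [e1, orderOf_one] at heo; norm_num at heo
  have he2 : e * e = 1 := by rw [← pow_two, ← heo, pow_orderOf_eq_one]
  have her : e ∈ zpowers r := zpowers_le.2 (mul_mem (mem_zpowers r) (mem_zpowers r)) he
  obtain ⟨l, hl⟩ := mem_zpowers_iff.1 he
  have hconj : a * e * a⁻¹ = e := by
    refine invol_unique ?_ her (by rw [show a * e * a⁻¹ * (a * e * a⁻¹) = a * (e * e) * a⁻¹ by group, he2]; group)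
      he2 (fun e1 => he1 (conj_eq_one_iff.1 e1)) he1
    have h1 : a * r ^ l * a⁻¹ ∈ R := hRn.conj_mem _ (mem_sup_left (zpow_mem (mem_zpowers r) l)) a
    rw [show a * e * a⁻¹ = a * r ^ l * a⁻¹ * (a * r ^ l * a⁻¹) by
      rw [← hl, (Commute.refl r).mul_zpow]; group]
    rcases hdec _ h1 with h1 | h1
    · exact mul_mem h1 h1
    · have h3 := mul_mem h1 h1
      rwa [show z⁻¹ * (a * r ^ l * a⁻¹) * (z⁻¹ * (a * r ^ l * a⁻¹)) = a * r ^ l * a⁻¹ * (a * r ^ l * a⁻¹) by
        rw [inv_eq_of_mul_eq_one_right hz2, show ∀ y : X, z * y * (z * y) = z * (y * z) * y from fun y => by group,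
          hzc (a * r ^ l * a⁻¹), ← mul_assoc z z, hz2, one_mul]] at h3
  set V := Z ⊔ zpowers e
  have hVC : V ≤ centralizer ({a} : Set X) := sup_le (zpowers_le.2 (mem_cent.2 (hzc a)))
    (zpowers_le.2 (mem_cent.2 (mul_inv_eq_iff_eq_mul.1 hconj)))
  have heZ : e ∉ Z := fun h => (mem_zpowers_invol hz2 h).elim he1 fun h' => hzr (h' ▸ her)
  have h1 : 2 * Nat.card Z ≤ Nat.card V := two_mul_card_le le_sup_left (mem_sup_right (mem_zpowers e)) heZ
  have h3 : 2 * Nat.card V ≤ Nat.card ↥(centralizer ({a} : Set X)) := two_mul_card_le hVC (mem_cent.2 rfl)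
    (fun h => haR (sup_le le_sup_right (le_sup_left.trans' (zpowers_le.2 her)) h))
  omega

theorem almost_cyclic {X : Type u} [Group X] [Finite X] (h2 : IsPGroup 2 X) {a : X} (ha : a * a = 1)
    (hC : Nat.card ↥(centralizer ({a} : Set X)) ≤ 4) :
    Nat.card X ≤ 4 ∨ ∃ r : X, (zpowers r).index ≤ 2 := almost_cyclic_aux _ X rfl h2 a ha hC

theorem two_generated_of_card {X : Type u} [Group X] [Finite X] (K : Subgroup X) (h : Nat.card K ≤ 4) :
    ∃ k₁ ∈ K, ∃ k₂ ∈ K, K ≤ closure {k₁, k₂} := by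
  have hc : Nat.card K ≤ 2 * 2 * Nat.card (⊥ : Subgroup X) := by rw [card_bot]; omega
  obtain ⟨x₁, hx₁, l₁, c₁⟩ := step bot_le 2 hc
  obtain ⟨x₂, hx₂, l₂, c₂⟩ := step l₁ 1 c₁
  rw [one_mul] at c₂
  refine ⟨x₁, hx₁, x₂, hx₂, (le_of_card l₂ c₂).trans (sup_le (sup_le bot_le ?_) ?_)⟩ <;>
    exact zpowers_le.2 (subset_closure (by simp))

/-- Subgroups are two-generated and the non-cyclic ones contain the central involution. -/
theorem two_gen {X : Type u} [Group X] [Finite X] (h2 : IsPGroup 2 X) {a z : X} (ha : a * a = 1)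
    (hC : Nat.card ↥(centralizer ({a} : Set X)) ≤ 4) (hzc : ∀ g : X, g * z = z * g) (hz2 : z * z = 1)
    (hz1 : z ≠ 1) (K : Subgroup X) :
    (∃ k ∈ K, K ≤ zpowers k) ∨ (z ∈ K ∧ ∃ k₁ ∈ K, ∃ k₂ ∈ K, K ≤ closure {k₁, k₂}) := by
  haveI : Fact (Nat.Prime 2) := ⟨Nat.prime_two⟩
  have hsmall : Nat.card K ≤ 2 → ∃ k ∈ K, K ≤ zpowers k := fun h => by
    obtain ⟨x₁, hx₁, l₁, c₁⟩ := step (bot_le : ⊥ ≤ K) 1 (by rw [card_bot]; omega)
    rw [one_mul] at c₁
    exact ⟨x₁, hx₁, (le_of_card l₁ c₁).trans (sup_le bot_le le_rfl)⟩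
  by_cases hK2 : Nat.card K ≤ 2
  · exact Or.inl (hsmall hK2)
  rcases almost_cyclic h2 ha hC with h4 | ⟨r, hr⟩
  · obtain ⟨m, hm⟩ := K.card_subgroup_dvd_card
    have h0 : 0 < Nat.card X := Nat.card_pos
    have hm1 : m = 1 := by
      rcases m with _ | _ | m
      · omega
      · rfl
      · have := Nat.mul_le_mul (show 3 ≤ Nat.card K by omega) (show 2 ≤ m + 1 + 1 by omega)
        omega
    rw [hm1, mul_one] at hm
    exact Or.inr ⟨(eq_top_of_card_eq K hm.symm).ge (mem_top z), two_generated_of_card K (by omega)⟩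
  by_cases hzr : z ∈ zpowers r
  swap
  · by_contra hnot
    replace hnot : ¬(z ∈ K ∧ ∃ k₁ ∈ K, ∃ k₂ ∈ K, K ≤ closure {k₁, k₂}) := fun h => hnot (Or.inr h)
    have htop : zpowers r ⊔ zpowers z = ⊤ := by
      refine eq_top_of_card_eq _ (le_antisymm (card_le_card_group _) ?_)
      have h1 := two_mul_card_le (le_sup_left : zpowers r ≤ zpowers r ⊔ zpowers z)
        (mem_sup_right (mem_zpowers z)) hzr
      rw [← (zpowers r).card_mul_index]
      exact le_trans (Nat.mul_le_mul le_rfl hr) (by rwa [mul_comm])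
    have hr' : ∀ g : X, g * r = r * g := fun g => by
      have h1 : zpowers r ⊔ zpowers z ≤ centralizer ({r} : Set X) :=
        sup_le (zpowers_le.2 (mem_cent.2 rfl)) (zpowers_le.2 (mem_cent.2 (hzc r)))
      exact (mem_cent.1 (h1 (htop ▸ mem_top g))).symm
    have hall : centralizer ({a} : Set X) = ⊤ := top_unique (htop.ge.trans
      (sup_le (zpowers_le.2 (mem_cent.2 (hr' a))) (zpowers_le.2 (mem_cent.2 (hzc a)))))
    rw [hall, card_top] at hC
    obtain ⟨m, hm⟩ := K.card_subgroup_dvd_card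
    have hKtop : Nat.card K = Nat.card X := by
      rcases m with _ | _ | m
      · have : 0 < Nat.card X := Nat.card_pos
        omega
      · omega
      · have := Nat.mul_le_mul (show 3 ≤ Nat.card K by omega) (show 2 ≤ m + 1 + 1 by omega)
        omega
    exact hnot ⟨(eq_top_of_card_eq K hKtop).ge (mem_top z), two_generated_of_card K (by omega)⟩
  by_cases hKr : K ≤ zpowers r
  · haveI := Subgroup.isCyclic_of_le hKr
    obtain ⟨k, hk⟩ := (K.isCyclic_iff_exists_zpowers_eq_top).1 inferInstance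
    exact Or.inl ⟨k, hk ▸ mem_zpowers k, hk.ge⟩
  obtain ⟨k, hk, hkr⟩ := SetLike.not_le_iff_exists.1 hKr
  have hidx : ∀ g ∈ K, g ∈ zpowers r ∨ k⁻¹ * g ∈ zpowers r := fun g _ => by
    by_cases hg : g ∈ zpowers r
    · exact Or.inl hg
    have h2i : (zpowers r).index = 2 := by
      have : (zpowers r).index ≠ 1 := fun e => hkr ((index_eq_one.1 e).ge (mem_top k))
      have := (zpowers r).index_ne_zero_of_finite
      omega
    exact Or.inr ((mul_mem_iff_of_index_two h2i).2 (iff_of_false (fun h => hkr (inv_mem_iff.1 h)) hg))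
  have hKle : Nat.card K ≤ 2 * Nat.card ↥(K ⊓ zpowers r) := card_le_two_mul k fun g hg =>
    (hidx g hg).imp (fun h => ⟨hg, h⟩) fun h => ⟨K.mul_mem (K.inv_mem hk) hg, h⟩
  have hne : K ⊓ zpowers r ≠ ⊥ := fun e => by rw [e, card_bot] at hKle; omega
  obtain ⟨v, hv, hvo⟩ := exists_orderOf_eq h2 hne
  have hvz : v = z := invol_unique hv.2 hzr (by rw [← pow_two, ← hvo, pow_orderOf_eq_one]) hz2
    (fun e => by rw [e, orderOf_one] at hvo; norm_num at hvo) hz1
  haveI := Subgroup.isCyclic_of_le (inf_le_right : K ⊓ zpowers r ≤ zpowers r)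
  obtain ⟨s, hs⟩ := ((K ⊓ zpowers r).isCyclic_iff_exists_zpowers_eq_top).1 inferInstance
  have hsK : s ∈ K ⊓ zpowers r := hs ▸ mem_zpowers s
  refine Or.inr ⟨hvz ▸ hv.1, k, hk, s, hsK.1, fun g hg => ?_⟩
  have hin : ∀ y ∈ K ⊓ zpowers r, y ∈ closure ({k, s} : Set X) := fun y hy =>
    zpowers_le.2 (subset_closure (by simp)) (hs.ge hy)
  rcases hidx g hg with h | h
  · exact hin g ⟨hg, h⟩
  · have := mul_mem (subset_closure (show k ∈ ({k, s} : Set X) by simp)) (hin _ ⟨K.mul_mem (K.inv_mem hk) hg, h⟩)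
    rwa [mul_inv_cancel_left] at this

end CfsgLib.PGroup.SelfEight
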