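import Mathlib
import Cfsg.Agent.Lib.PGroup.SelfCentralEight.Almost

/-!
Elementary abelian normal subgroups: faithful action and generation.
-/

set_option autoImplicit false

namespace CfsgLib.PGroup.SelfEight

open Subgroup CfsgLib.PGroup.MacWilliams

universe u

variable {G : Type u} [Group G]

theorem dd_mul_left (g h w : G) : dd (g * h) w = dd g (dd h w) * dd h w * dd g w := by
  simp only [dd]; group

theorem dd_congr {W : Subgroup G} {g g' w : G} (h : g⁻¹ * g' ∈ centralizer (W : Set G)) (hw : w ∈ W) :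
    dd g w = dd g' w := by
  have h1 : g⁻¹ * g' * w * (g⁻¹ * g')⁻¹ = w := by
    rw [← mem_centralizer_iff.1 h w hw]; group
  conv_rhs => rw [dd, show g' * w * g'⁻¹ = g * (g⁻¹ * g' * w * (g⁻¹ * g')⁻¹) * g⁻¹ by group, h1]
  rfl

theorem sep_of_dd {g g' w : G} (h : dd g w = dd g' w) : g⁻¹ * g' * w = w * (g⁻¹ * g') := by
  have h1 : g' * w * g'⁻¹ = g * w * g⁻¹ := by rw [conj_eq, conj_eq, h]
  calc g⁻¹ * g' * w = g⁻¹ * (g' * w * g'⁻¹) * g' := by group
    _ = w * (g⁻¹ * g') := by rw [h1]; group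

variable [Finite G]

theorem Elem.fix_congr {W : Subgroup G} (e : Elem W) {g g' : G} (h : g⁻¹ * g' ∈ W) :
    W ⊓ centralizer ({g} : Set G) = W ⊓ centralizer ({g'} : Set G) := by
  ext w
  rw [mem_inf, mem_inf]
  refine and_congr_right fun hw => ?_
  have := dd_congr (W := W) (g := g) (g' := g') (mem_centralizer_iff.2 fun v hv => e.comm v hv _ h) hw
  rw [mem_cent, mem_cent, ← dd_eq_one, ← dd_eq_one, this]

theorem exists_central_invol (hP : IsPGroup 2 G) {W : Subgroup G} [W.Normal] (hW : W ≠ ⊥) :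
    ∃ z ∈ W, z * z = 1 ∧ z ≠ 1 ∧ ∀ g : G, g * z = z * g := by
  haveI : Fact (Nat.Prime 2) := ⟨Nat.prime_two⟩
  obtain ⟨z, hz, hzo⟩ := exists_orderOf_eq hP (inf_center_ne_bot hP W hW)
  exact ⟨z, hz.1, by rw [← pow_two, ← hzo, pow_orderOf_eq_one],
    fun e => by rw [e, orderOf_one] at hzo; norm_num at hzo, mem_center_iff.1 hz.2⟩

theorem central_zpowers_normal {z : G} (hz : ∀ g : G, g * z = z * g) : (zpowers z).Normal :=
  ⟨fun k hk g => by
    rw [mem_center_iff.1 (zpowers_le.2 (mem_center_iff.2 hz) hk) g, mul_inv_cancel_right]; exact hk⟩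

theorem aut_eight (hP : IsPGroup 2 G) {W : Subgroup G} (e : Elem W) (h8 : Nat.card W = 8) (K : Subgroup G) :
    ∃ g₁ ∈ K, ∃ g₂ ∈ K, ∀ h ∈ K, ∃ k ∈ closure ({g₁, g₂} : Set G), k⁻¹ * h ∈ centralizer (W : Set G) := by
  classical
  haveI := e.normal
  set N := centralizer (W : Set G)
  set π := QuotientGroup.mk' N
  obtain ⟨z, hzW, hz2, hz1, hzc⟩ := exists_central_invol hP (W := W) (fun h => by rw [h, card_bot] at h8; omega)
  haveI := central_zpowers_normal hzc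
  have hZ : Nat.card (zpowers z) = 2 := card_zpowers_invol hz2 hz1
  obtain ⟨w₁, hw₁, hw₁Z, hd₁, hw₁s⟩ := exists_central_mod hP (N := zpowers z) (M := W)
    (fun h => by have := Subgroup.card_le_of_le h; omega)
  set W₁ := zpowers z ⊔ zpowers w₁
  have hn₁ : ∀ k ∈ zpowers z, w₁ * k * w₁⁻¹ ∈ zpowers z := fun k hk => Subgroup.Normal.conj_mem inferInstance k hk w₁
  have hW₁ : W₁ ≤ W := sup_le (zpowers_le.2 hzW) (zpowers_le.2 hw₁)
  have hcW₁ : Nat.card W₁ = 4 := by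
    have h1 : Nat.card W₁ ≤ 2 * Nat.card (zpowers z) := card_sup_two hn₁ hw₁s
    have h2 : 2 * Nat.card (zpowers z) ≤ Nat.card W₁ :=
      two_mul_card_le le_sup_left (mem_sup_right (mem_zpowers w₁)) hw₁Z
    omega
  have hconj : ∀ s : G, ∀ v ∈ W₁, s * v * s⁻¹ ∈ W₁ := fun s v hv => by
    have : W₁ ≤ W₁.comap (MulAut.conj s).toMonoidHom := sup_le
      (zpowers_le.2 (show s * z * s⁻¹ ∈ W₁ by rw [hzc s, mul_inv_cancel_right]; exact mem_sup_left (mem_zpowers z)))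
      (zpowers_le.2 (show s * w₁ * s⁻¹ ∈ W₁ by
        rw [conj_eq]; exact W₁.mul_mem (mem_sup_left (hd₁ s)) (mem_sup_right (mem_zpowers w₁))))
    exact this hv
  obtain ⟨w₂, hw₂, hw₂'⟩ := SetLike.not_le_iff_exists.1
    (show ¬W ≤ W₁ from fun h => by have := Subgroup.card_le_of_le h; omega)
  have hd₂ : ∀ s : G, dd s w₂ ∈ W₁ := fun s => mul_mem_of_two hW₁ (by omega) (e.normal.conj_mem _ hw₂ s)
    (fun h => hw₂' (by
      have h3 := hconj s⁻¹ _ h
      rwa [show s⁻¹ * (s * w₂ * s⁻¹) * s⁻¹⁻¹ = w₂ by group] at h3))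
    (W.inv_mem hw₂) (fun h => hw₂' (by simpa using W₁.inv_mem h))
  have hgen : W ≤ closure ({z, w₁, w₂} : Set G) := by
    refine (le_of_card (K := W₁ ⊔ zpowers w₂) (sup_le hW₁ (zpowers_le.2 hw₂)) ?_).trans
      (sup_le (sup_le ?_ ?_) ?_)
    · have h2 := two_mul_card_le (le_sup_left : W₁ ≤ W₁ ⊔ zpowers w₂) (mem_sup_right (mem_zpowers w₂)) hw₂'
      omega
    all_goals exact zpowers_le.2 (subset_closure (by simp))
  have hsep : ∀ g g' : G, dd g w₁ = dd g' w₁ → dd g w₂ = dd g' w₂ → g⁻¹ * g' ∈ N := fun g g' h1 h2 => by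
    refine mem_cent_of_le_closure hgen fun s hs => ?_
    rcases hs with rfl | rfl | rfl
    exacts [hzc _, sep_of_dd h1, sep_of_dd h2]
  let F : G ⧸ N → zpowers z × W₁ := fun q => (⟨dd q.out w₁, hd₁ _⟩, ⟨dd q.out w₂, hd₂ _⟩)
  have hF : Function.Injective F := fun q r h => by
    have h1 := hsep q.out r.out (congrArg Subtype.val (congrArg Prod.fst h)) (congrArg Subtype.val (congrArg Prod.snd h))
    have h2 : (q.out : G ⧸ N) = (r.out : G ⧸ N) := QuotientGroup.eq.2 h1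
    rwa [QuotientGroup.out_eq', QuotientGroup.out_eq'] at h2
  have hX : Nat.card (G ⧸ N) ≤ 8 := by
    have := Nat.card_le_card_of_injective F hF
    rwa [Nat.card_prod, hZ, hcW₁] at this
  have hwit : ∀ k₁ k₂, k₁ ∈ K.map π → k₂ ∈ K.map π → K.map π ≤ closure {k₁, k₂} →
      ∃ g₁ ∈ K, ∃ g₂ ∈ K, ∀ h ∈ K, ∃ k ∈ closure ({g₁, g₂} : Set G), k⁻¹ * h ∈ N := by
    rintro _ _ ⟨g₁, hg₁, rfl⟩ ⟨g₂, hg₂, rfl⟩ h
    exact ⟨g₁, hg₁, g₂, hg₂, cover_of_image (h.trans_eq (by rw [Set.image_insert_eq, Set.image_singleton]))⟩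
  by_cases h4 : Nat.card ↥(K.map π) ≤ 4
  · obtain ⟨k₁, hk₁, k₂, hk₂, h⟩ := two_generated_of_card _ h4
    exact hwit k₁ k₂ hk₁ hk₂ h
  by_cases hexp : ∀ q ∈ K.map π, q * q = 1
  · exfalso
    have hcard : Nat.card (G ⧸ N) = 8 := by
      obtain ⟨m, hm⟩ := (K.map π).card_subgroup_dvd_card
      haveI : Fact (Nat.Prime 2) := ⟨Nat.prime_two⟩
      obtain ⟨j, hj⟩ := card_eq_pow (hP.to_quotient N)
      have : Nat.card ↥(K.map π) ≤ Nat.card (G ⧸ N) := card_le_card_group _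
      have h5 : 5 ≤ 2 ^ j := by omega
      have h8' : 2 ^ j ≤ 8 := by omega
      have hj3 : j = 3 := by
        rcases Nat.lt_trichotomy j 3 with h | h | h
        · have := Nat.pow_le_pow_right two_pos (show j ≤ 2 by omega)
          norm_num at this
          omega
        · exact h
        · have := Nat.pow_le_pow_right two_pos (show 4 ≤ j by omega)
          norm_num at this
          omega
      rw [hj, hj3]; norm_num
    have htop : K.map π = ⊤ := eq_top_of_card_eq _ (by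
      obtain ⟨m, hm⟩ := (K.map π).card_subgroup_dvd_card
      rcases m with _ | _ | m
      · omega
      · omega
      · have := Nat.mul_le_mul (show 5 ≤ Nat.card ↥(K.map π) by omega) (show 2 ≤ m + 1 + 1 by omega)
        omega)
    have hbij : Function.Bijective F := (Nat.bijective_iff_injective_and_card F).2
      ⟨hF, by rw [Nat.card_prod, hZ, hcW₁, hcard]⟩
    obtain ⟨q₁, hq₁⟩ := hbij.2 (⟨z, mem_zpowers z⟩, 1)
    obtain ⟨q₂, hq₂⟩ := hbij.2 (1, ⟨w₁, mem_sup_right (mem_zpowers w₁)⟩)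
    set g := q₁.out
    set h := q₂.out
    have hg1 : dd g w₁ = z := congrArg Subtype.val (congrArg Prod.fst hq₁)
    have hg2 : dd g w₂ = 1 := congrArg Subtype.val (congrArg Prod.snd hq₁)
    have hh2 : dd h w₂ = w₁ := congrArg Subtype.val (congrArg Prod.snd hq₂)
    have hc : π (g * h) = π (h * g) := by
      rw [map_mul, map_mul]
      have hs : ∀ q : G ⧸ N, q * q = 1 := fun q => hexp q (htop ▸ mem_top q)
      calc π g * π h = (π g * π h)⁻¹ := (inv_eq_of_mul_eq_one_right (hs _)).symm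
        _ = π h * π g := by rw [mul_inv_rev, inv_eq_of_mul_eq_one_right (hs _), inv_eq_of_mul_eq_one_right (hs _)]
    have h1 := dd_congr (W := W) (mk_eq_mk.1 hc) hw₂
    rw [dd_mul_left, dd_mul_left, hg2, hh2, hg1, show dd h (1 : G) = 1 by simp [dd], mul_one, one_mul, one_mul,
      mul_eq_right] at h1
    exact hz1 h1
  push_neg at hexp
  obtain ⟨k₁, hk₁, hk₁s⟩ := hexp
  have hord : 4 ≤ Nat.card (zpowers k₁) := by
    rw [Nat.card_zpowers]
    haveI : Fact (Nat.Prime 2) := ⟨Nat.prime_two⟩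
    obtain ⟨j, hj⟩ := IsPGroup.iff_orderOf.1 (hP.to_quotient N) k₁
    rcases j with _ | _ | j
    · rw [pow_zero, orderOf_eq_one_iff] at hj; rw [hj, one_mul] at hk₁s; exact absurd rfl hk₁s
    · rw [zero_add, pow_one] at hj
      exact absurd (by rw [← pow_two, ← hj, pow_orderOf_eq_one]) hk₁s
    · rw [hj, pow_succ, pow_succ]
      have := Nat.one_le_two_pow (n := j)
      omega
  obtain ⟨k₂, hk₂, l₂, c₂⟩ := step (zpowers_le.2 hk₁) 1 (by
    have := card_le_card_group (K.map π)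
    omega)
  rw [one_mul] at c₂
  exact hwit k₁ k₂ hk₁ hk₂ ((le_of_card l₂ c₂).trans (sup_le (zpowers_le.2 (subset_closure (by simp)))
    (zpowers_le.2 (subset_closure (by simp)))))

variable (hP : IsPGroup 2 G)

theorem rng_gain {W H : Subgroup G} (e : Elem W) {h : G} (hh : h ∈ H) :
    e.rng (inf_le_right : H ⊓ W ≤ W) h ≤ H ⊓ W ∧
      ∀ M : Subgroup G, M ≤ H → (∀ x ∈ H, x * x ∈ M) → e.rng (inf_le_right : H ⊓ W ≤ W) h ≤ M := by
  refine ⟨fun v hv => ?_, fun M _ hsq v hv => ?_⟩ <;> obtain ⟨w, hw, rfl⟩ := (e.mem_rng _).1 hv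
  · exact ⟨H.mul_mem (H.mul_mem (H.mul_mem hh hw.1) (H.inv_mem hh)) (H.inv_mem hw.1), e.dd_mem h hw.2⟩
  · exact dd_mem_of_sq hsq hh hw.1

include hP in
theorem four_faithful {W : Subgroup G} (e : Elem W) (h16 : Nat.card W ≤ 16) (hCW : centralizer (W : Set G) ≤ W)
    (H : Subgroup G)
    (hcov : (∃ g ∈ H, ∀ h ∈ H, ∃ k ∈ closure ({g} : Set G), k⁻¹ * h ∈ W) ∨
      ∃ g₁ ∈ H, ∃ g₂ ∈ H, (∀ h ∈ H, ∃ k ∈ closure ({g₁, g₂} : Set G), k⁻¹ * h ∈ W) ∧
        ∃ h₀ ∈ H, Nat.card ↥(W ⊓ centralizer ({h₀} : Set G)) ≤ 4) : Four H := by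
  rcases hcov with ⟨g, hg, hc⟩ | ⟨g₁, hg₁, g₂, hg₂, hc, h₀, hh₀, hfix⟩
  · by_cases h8 : Nat.card ↥(H ⊓ W) ≤ 8
    · exact four_one hP hg hc bot_le (fun _ _ _ => bot_le) (by rw [card_bot]; omega)
    by_cases hgW : g ∈ W
    · refine four_zero hP (fun h hh => ?_) h16
      obtain ⟨k, hk, hkh⟩ := hc h hh
      simpa using W.mul_mem ((closure_le W).2 (Set.singleton_subset_iff.2 hgW) hk) hkh
    have hD : W ≤ H ⊓ W := by
      refine le_of_card inf_le_right ?_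
      obtain ⟨m, hm⟩ := Subgroup.card_dvd_of_le (inf_le_right : H ⊓ W ≤ W)
      rcases m with _ | _ | m
      · omega
      · omega
      · have := Nat.mul_le_mul (show 9 ≤ Nat.card ↥(H ⊓ W) by omega) (show 2 ≤ m + 1 + 1 by omega)
        omega
    refine four_one hP hg hc (rng_gain e hg).1 (rng_gain e hg).2 ?_
    have h1 := e.card_split (inf_le_right : H ⊓ W ≤ W) g
    obtain ⟨w, hw, hwg⟩ := SetLike.not_le_iff_exists.1
      (show ¬W ≤ centralizer ({g} : Set G) from fun h => hgW (hCW (mem_centralizer_iff.2 fun w hw =>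
        (mem_cent.1 (h hw)).symm)))
    have h3 := two_mul_card_le (inf_le_left : H ⊓ W ⊓ centralizer ({g} : Set G) ≤ H ⊓ W) (hD hw)
      (fun h => hwg h.2)
    have h4 := (Subgroup.card_le_of_le (inf_le_right : H ⊓ W ≤ W)).trans h16
    nlinarith
  · refine four_two hP hg₁ hg₂ hc (rng_gain e hh₀).1 (rng_gain e hh₀).2 ?_
    have h1 := e.card_split (inf_le_right : H ⊓ W ≤ W) h₀
    have h3 := (Subgroup.card_le_of_le (inf_le_inf_right (centralizer ({h₀} : Set G))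
      (inf_le_right : H ⊓ W ≤ W))).trans hfix
    rw [← h1]
    exact Nat.mul_le_mul h3 le_rfl

include hP in
theorem four_eight {W : Subgroup G} (e : Elem W) (h8 : Nat.card W = 8) (hCW : centralizer (W : Set G) ≤ W)
    (H : Subgroup G) : Four H := by
  refine four_faithful hP e (by omega) hCW H ?_
  obtain ⟨g₁, hg₁, g₂, hg₂, hc⟩ := aut_eight hP e h8 H
  by_cases hH : H ≤ W
  · exact Or.inl ⟨1, H.one_mem, fun h hh => ⟨1, one_mem _, by simpa using hH hh⟩⟩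
  obtain ⟨h₀, hh₀, hh₀W⟩ := SetLike.not_le_iff_exists.1 hH
  refine Or.inr ⟨g₁, hg₁, g₂, hg₂, fun h hh => ?_, h₀, hh₀, ?_⟩
  · obtain ⟨k, hk, hkh⟩ := hc h hh
    exact ⟨k, hk, hCW hkh⟩
  obtain ⟨w, hw, hwh⟩ := SetLike.not_le_iff_exists.1
    (show ¬W ≤ centralizer ({h₀} : Set G) from fun h => hh₀W (hCW (mem_centralizer_iff.2 fun w hw =>
      (mem_cent.1 (h hw)).symm)))
  have h3 := two_mul_card_le (inf_le_left : W ⊓ centralizer ({h₀} : Set G) ≤ W) hw (fun h => hwh h.2)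
  omega

include hP in
theorem quot_two_gen {W : Subgroup G} [W.Normal] {a z : G} (ha : a * a ∈ W)
    (hC : Nat.card ↥(centralizer ({QuotientGroup.mk' W a} : Set (G ⧸ W))) ≤ 4) (hzc : ∀ s, dd s z ∈ W)
    (hz2 : z * z ∈ W) (hzW : z ∉ W) (H : Subgroup G) :
    (∃ g ∈ H, ∀ h ∈ H, ∃ k ∈ closure ({g} : Set G), k⁻¹ * h ∈ W) ∨
      ∃ g₁ ∈ H, ∃ g₂ ∈ H, (∀ h ∈ H, ∃ k ∈ closure ({g₁, g₂} : Set G), k⁻¹ * h ∈ W) ∧
        ∃ h₀ ∈ H, z⁻¹ * h₀ ∈ W := by
  set π := QuotientGroup.mk' W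
  have hzc' : ∀ q : G ⧸ W, q * π z = π z * q := fun q => by
    obtain ⟨s, rfl⟩ := QuotientGroup.mk'_surjective W q
    exact mk_comm.2 (hzc s)
  rcases two_gen (hP.to_quotient W) (a := π a) (by rw [← map_mul]; exact (QuotientGroup.eq_one_iff _).2 ha) hC hzc'
      (by rw [← map_mul]; exact (QuotientGroup.eq_one_iff _).2 hz2)
      (fun h => hzW ((QuotientGroup.eq_one_iff _).1 h)) (H.map π) with
    ⟨k, hk, hle⟩ | ⟨hz, k₁, hk₁, k₂, hk₂, hle⟩
  · obtain ⟨g, hg, rfl⟩ := hk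
    exact Or.inl ⟨g, hg, cover_of_image (hle.trans_eq (by rw [zpowers_eq_closure, Set.image_singleton]))⟩
  · obtain ⟨g₁, hg₁, rfl⟩ := hk₁
    obtain ⟨g₂, hg₂, rfl⟩ := hk₂
    obtain ⟨h₀, hh₀, e₀⟩ := hz
    exact Or.inr ⟨g₁, hg₁, g₂, hg₂,
      cover_of_image (hle.trans_eq (by rw [Set.image_insert_eq, Set.image_singleton])),
      h₀, hh₀, mk_eq_mk.1 e₀.symm⟩

end CfsgLib.PGroup.SelfEight
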