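import Mathlib
import Cfsg.Agent.Lib.PGroup.SelfCentralEight.Faithful

/-!
One and two involutions acting on a normal elementary abelian subgroup.
-/

set_option autoImplicit false

namespace CfsgLib.PGroup.SelfEight

open Subgroup

universe u

variable {G : Type u} [Group G]

theorem invol_dd_fix {W : Subgroup G} (e : Elem W) {a g : G} (ha : a * a = 1) (hc : dd g a ∈ W) :
    a * dd g a = dd g a * a := by
  have hai : a⁻¹ = a := inv_eq_of_mul_eq_one_right ha
  have h1 : dd g a * a * (dd g a * a) = 1 := by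
    rw [← conj_eq, show g * a * g⁻¹ * (g * a * g⁻¹) = g * (a * a) * g⁻¹ by group, ha, mul_one, mul_inv_cancel]
  have h2 := inv_eq_of_mul_eq_one_right h1
  rw [mul_inv_rev, hai, e.inv_eq hc] at h2
  exact h2

theorem dd_left {W : Subgroup G} (e : Elem W) {g a w : G} (hc : dd g a ∈ W) (hw : w ∈ W) :
    dd (w * g) a = dd g a * dd a w := by
  rw [← e.dd_symm a hw]
  calc dd (w * g) a = w * dd g a * (a * w⁻¹ * a⁻¹) := by simp only [dd]; group
    _ = dd g a * w * (a * w⁻¹ * a⁻¹) := by rw [e.comm w hw _ hc]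
    _ = dd g a * dd w a := by simp only [dd]; group

theorem compat {W : Subgroup G} (e : Elem W) {g a b : G} (hab : a * b = b * a) (ha : dd g a ∈ W)
    (hb : dd g b ∈ W) : dd a (dd g b) = dd b (dd g a) := by
  set c := dd g a with hc
  set d := dd g b with hd
  have h1 : c * a * (d * b) = d * b * (c * a) := by
    rw [hc, hd, ← conj_eq, ← conj_eq, show g * a * g⁻¹ * (g * b * g⁻¹) = g * (a * b) * g⁻¹ by group, hab]
    group
  have h3 : c * dd a d * d * (a * b) = d * dd b c * c * (b * a) := by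
    calc c * dd a d * d * (a * b) = c * a * (d * b) := by simp only [dd]; group
      _ = d * b * (c * a) := h1
      _ = d * dd b c * c * (b * a) := by simp only [dd]; group
  rw [hab] at h3
  have h4 := mul_right_cancel h3
  have m1 := e.dd_mem a hb
  have m2 := e.dd_mem b ha
  have h5 : c * d * dd a d = c * d * dd b c := by
    calc c * d * dd a d = c * (dd a d * d) := by rw [mul_assoc, e.comm d hb _ m1]
      _ = d * dd b c * c := by rw [← mul_assoc, h4]
      _ = d * c * dd b c := by rw [mul_assoc, e.comm _ m2 c ha, ← mul_assoc]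
      _ = c * d * dd b c := by rw [e.comm d hb c ha]
  exact mul_left_cancel h5

theorem pow_cases [Finite G] (hP : IsPGroup 2 G) (H : Subgroup G) :
    Nat.card H = 1 ∨ Nat.card H = 2 ∨ Nat.card H = 4 ∨ Nat.card H = 8 ∨ 16 ≤ Nat.card H := by
  haveI : Fact (Nat.Prime 2) := ⟨Nat.prime_two⟩
  obtain ⟨j, hj⟩ := card_eq_pow (hP.to_subgroup H)
  rw [hj]
  match j with
  | 0 => norm_num
  | 1 => norm_num
  | 2 => norm_num
  | 3 => norm_num
  | j + 4 =>
    have := Nat.pow_le_pow_right two_pos (show 4 ≤ j + 4 by omega)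
    norm_num at this
    omega

/-- Two commuting involutions acting on `W` with common fixed points `U` of order two. -/
structure Pair (W U : Subgroup G) (a b : G) : Prop where
  isP : IsPGroup 2 G
  elem : Elem W
  big : 8 ≤ Nat.card W
  sqa : a * a = 1
  sqb : b * b = 1
  hab : a * b = b * a
  hUW : U ≤ W
  hU : Nat.card U = 2
  fixa : ∀ u ∈ U, a * u = u * a
  fixb : ∀ u ∈ U, b * u = u * b
  fix : ∀ w ∈ W, a * w = w * a → b * w = w * b → w ∈ U

namespace Pair

variable {W U : Subgroup G} {a b : G}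

theorem symm (P : Pair W U a b) : Pair W U b a :=
  ⟨P.isP, P.elem, P.big, P.sqb, P.sqa, P.hab.symm, P.hUW, P.hU, P.fixb, P.fixa, fun w hw h h' => P.fix w hw h' h⟩

theorem le_fix (P : Pair W U a b) : U ≤ W ⊓ centralizer ({a} : Set G) :=
  fun u hu => ⟨P.hUW hu, mem_cent.2 (P.fixa u hu)⟩

theorem inf_cent_le (P : Pair W U a b) : W ⊓ centralizer ({a} : Set G) ⊓ centralizer ({b} : Set G) ≤ U :=
  fun v hv => P.fix v hv.1.1 (mem_cent.1 hv.1.2) (mem_cent.1 hv.2)

theorem rng_le (P : Pair W U a b) :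
    P.elem.rng (inf_le_left : W ⊓ centralizer ({a} : Set G) ≤ W) b ≤ U := by
  intro v hv
  have h1 := P.elem.rng_le_fix _ P.sqb hv
  obtain ⟨w, hw, rfl⟩ := (P.elem.mem_rng _).1 hv
  refine P.fix _ h1.1 (mem_cent.1 ?_) (mem_cent.1 h1.2)
  have hb' : b ∈ centralizer ({a} : Set G) := mem_cent.2 P.hab
  exact Subgroup.mul_mem _ (Subgroup.mul_mem _ (Subgroup.mul_mem _ hb' hw.2) (Subgroup.inv_mem _ hb'))
    (Subgroup.inv_mem _ hw.2)

variable [Finite G]

theorem card_fix (P : Pair W U a b) : Nat.card ↥(W ⊓ centralizer ({a} : Set G)) = 4 := by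
  have h1 := P.elem.card_split (inf_le_left : W ⊓ centralizer ({a} : Set G) ≤ W) b
  have h2 := (Subgroup.card_le_of_le P.inf_cent_le).trans P.hU.le
  have h3 := (Subgroup.card_le_of_le P.rng_le).trans P.hU.le
  have h4 := Nat.mul_le_mul h2 h3
  rw [h1] at h4
  have h5 := P.elem.card_le_sq P.sqa
  have := P.big
  rcases pow_cases P.isP (W ⊓ centralizer ({a} : Set G)) with h | h | h | h | h <;>
    first | omega | (rw [h] at h5; omega)

theorem card_le (P : Pair W U a b) : Nat.card W ≤ 16 := by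
  have := P.elem.card_le_sq P.sqa
  rwa [P.card_fix] at this

theorem surj (P : Pair W U a b) {u : G} (hu : u ∈ U) :
    ∃ v ∈ W, dd a v = 1 ∧ dd b v = u := by
  have h1 := P.elem.card_split (inf_le_left : W ⊓ centralizer ({a} : Set G) ≤ W) b
  have h2 := (Subgroup.card_le_of_le P.inf_cent_le).trans P.hU.le
  rw [P.card_fix] at h1
  have h3 : U ≤ P.elem.rng (inf_le_left : W ⊓ centralizer ({a} : Set G) ≤ W) b := by
    refine le_of_card P.rng_le ?_
    rw [P.hU]
    by_contra! h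
    have := Nat.mul_le_mul h2 (Nat.lt_succ_iff.1 h)
    omega
  obtain ⟨v, hv, rfl⟩ := (P.elem.mem_rng _).1 (h3 hu)
  exact ⟨v, hv.1, dd_eq_one.2 (mem_cent.1 hv.2), rfl⟩

theorem solve_small (P : Pair W U a b) {m n : G} (hm : m ∈ U) (hn : n ∈ U) :
    ∃ w ∈ W, dd a w = m ∧ dd b w = n := by
  obtain ⟨u, hu, hub, hua⟩ := P.symm.surj hm
  obtain ⟨v, hv, hva, hvb⟩ := P.surj hn
  refine ⟨u * v, W.mul_mem hu hv, ?_, ?_⟩
  · rw [P.elem.dd_mul a hu hv, hua, hva, mul_one]
  · rw [P.elem.dd_mul b hu hv, hub, hvb, one_mul]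

theorem mem_U_of_mem_U (P : Pair W U a b) {g : G} (ha : dd g a ∈ W) (hb : dd g b ∈ W) (h : dd g a ∈ U) :
    dd g b ∈ U := by
  refine P.fix _ hb ?_ (invol_dd_fix P.elem P.sqb hb)
  rw [← dd_eq_one, compat P.elem P.hab ha hb, dd_eq_one]
  exact P.fixb _ h

theorem kill_of_mem_U (P : Pair W U a b) {g : G} (ha : dd g a ∈ W) (hb : dd g b ∈ W) (h : dd g a ∈ U) :
    ∃ w ∈ W, dd (w * g) a = 1 ∧ dd (w * g) b = 1 := by
  obtain ⟨w, hw, h1, h2⟩ := P.solve_small h (P.mem_U_of_mem_U ha hb h)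
  exact ⟨w, hw, by rw [dd_left P.elem ha hw, h1, P.elem.sq _ ha],
    by rw [dd_left P.elem hb hw, h2, P.elem.sq _ hb]⟩

theorem kill_sixteen (P : Pair W U a b) (h16 : Nat.card W = 16) {g : G} (ha : dd g a ∈ W) (hb : dd g b ∈ W) :
    ∃ w ∈ W, dd (w * g) a = 1 ∧ dd (w * g) b = 1 := by
  have h1 := P.elem.card_split (le_refl W) a
  rw [P.card_fix, h16] at h1
  have hle : W ⊓ centralizer ({a} : Set G) ≤ P.elem.rng (le_refl W) a :=
    le_of_card (P.elem.rng_le_fix _ P.sqa) (by rw [P.card_fix]; omega)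
  obtain ⟨w₀, hw₀, h0⟩ := (P.elem.mem_rng _).1 (hle ⟨ha, mem_cent.2 (invol_dd_fix P.elem P.sqa ha)⟩)
  have ha' : dd (w₀ * g) a = 1 := by rw [dd_left P.elem ha hw₀, h0, P.elem.sq _ ha]
  have hb' : dd (w₀ * g) b ∈ W := by rw [dd_left P.elem hb hw₀]; exact W.mul_mem hb (P.elem.dd_mem b hw₀)
  obtain ⟨w, hw, h2, h3⟩ := P.kill_of_mem_U (g := w₀ * g) (ha' ▸ W.one_mem) hb' (ha' ▸ U.one_mem)
  exact ⟨w * w₀, W.mul_mem hw hw₀, by rw [mul_assoc, h2], by rw [mul_assoc, h3]⟩

theorem rng_le_of_eight (P : Pair W U a b) (h8 : Nat.card W = 8) : P.elem.rng (le_refl W) a ≤ U := by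
  have h1 := P.elem.card_split (le_refl W) a
  rw [P.card_fix, h8] at h1
  intro v hv
  have hfix := P.elem.rng_le_fix _ P.sqa hv
  refine P.fix v hfix.1 (mem_cent.1 hfix.2) ?_
  by_cases hv1 : v = 1
  · rw [hv1, mul_one, one_mul]
  have h2 : P.elem.rng (le_refl W) a ≤ zpowers v := le_of_card (zpowers_le.2 hv)
    (by rw [card_zpowers_invol (P.elem.sq v hfix.1) hv1]; omega)
  have hb' : b * v * b⁻¹ ∈ P.elem.rng (le_refl W) a := by
    obtain ⟨w, hw, rfl⟩ := (P.elem.mem_rng _).1 hv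
    refine (P.elem.mem_rng _).2 ⟨b * w * b⁻¹, P.elem.normal.conj_mem w hw b, ?_⟩
    have hba : b * a * b⁻¹ = a := by rw [← P.hab, mul_inv_cancel_right]
    calc dd a (b * w * b⁻¹) = dd (b * a * b⁻¹) (b * w * b⁻¹) := by rw [hba]
      _ = b * dd a w * b⁻¹ := by simp only [dd]; group
  rcases mem_zpowers_invol (P.elem.sq v hfix.1) (h2 hb') with h | h
  · exact absurd (conj_eq_one_iff.1 h) hv1
  · exact mul_inv_eq_iff_eq_mul.1 h

end Pair

end CfsgLib.PGroup.SelfEight
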