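import Mathlib
import Cfsg.Agent.Lib.PGroup.SelfCentralEight.Cocycle

/-!
A self-centralizing elementary abelian subgroup of order eight against a normal one.
-/

set_option autoImplicit false

namespace CfsgLib.PGroup.SelfEight

open Subgroup

universe u

variable {G : Type u} [Group G] [Finite G]

/-- The configuration. -/
structure Base (A W : Subgroup G) : Prop where
  isP : IsPGroup 2 G
  comm : ∀ a ∈ A, ∀ b ∈ A, a * b = b * a
  sq : ∀ a ∈ A, a * a = 1
  card8 : Nat.card A = 8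
  cent : ∀ g, (∀ a ∈ A, g * a = a * g) → g ∈ A
  elem : Elem W
  big : 8 ≤ Nat.card W
  max : ∀ V : Subgroup G, Elem V → W ≤ V → V ≤ W

namespace Base

variable {A W : Subgroup G}

theorem mem_of_gen (B : Base A W) {S : Set G} (hS : A ≤ closure S) {g : G} (h : ∀ s ∈ S, g * s = s * g) : g ∈ A :=
  B.cent g fun a ha => (mem_centralizer_iff.1 (mem_cent_of_le_closure hS h) a ha).symm

theorem ne_bot (B : Base A W) : W ≠ ⊥ := fun h => by
  have := B.big
  rw [h, card_bot] at this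
  omega

theorem exists_central (B : Base A W) : ∃ u ∈ A ⊓ W, u * u = 1 ∧ u ≠ 1 ∧ ∀ g : G, g * u = u * g := by
  haveI := B.elem.normal
  obtain ⟨u, hu, hu2, hu1, huc⟩ := exists_central_invol B.isP B.ne_bot
  exact ⟨u, ⟨B.cent u fun a _ => (huc a).symm, hu⟩, hu2, hu1, huc⟩

theorem two_le (B : Base A W) : 2 ≤ Nat.card ↥(A ⊓ W) := by
  obtain ⟨u, hu, hu2, hu1, -⟩ := B.exists_central
  exact (card_zpowers_invol hu2 hu1).ge.trans (Subgroup.card_le_of_le (zpowers_le.2 hu))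

theorem inter (B : Base A W) (hAW : ¬A ≤ centralizer (W : Set G)) : A ⊓ centralizer (W : Set G) ≤ W := by
  set C₀ := A ⊓ centralizer (W : Set G)
  obtain ⟨a, ha, haC⟩ := SetLike.not_le_iff_exists.1 hAW
  have h1 : 2 * Nat.card C₀ ≤ 8 := B.card8 ▸ two_mul_card_le inf_le_left ha (fun h => haC h.2)
  have hUC : A ⊓ W ≤ C₀ := le_inf inf_le_left fun u hu =>
    mem_centralizer_iff.2 fun w hw => B.elem.comm w hw u hu.2
  have hU := B.two_le
  suffices h : C₀ ≤ A ⊓ W from h.trans inf_le_right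
  rcases pow_cases B.isP C₀ with h | h | h | h | h
  · exact le_of_card hUC (by omega)
  · exact le_of_card hUC (by omega)
  · have hgen : A ≤ C₀ ⊔ zpowers a := by
      have h2 : 2 * Nat.card C₀ ≤ Nat.card ↥(C₀ ⊔ zpowers a) :=
        two_mul_card_le le_sup_left (mem_sup_right (mem_zpowers a)) (fun h => haC h.2)
      exact le_of_card (sup_le inf_le_left (zpowers_le.2 ha)) (by have := B.card8; omega)
    have hfix : W ⊓ centralizer ({a} : Set G) ≤ A ⊓ W := fun w hw => ⟨B.cent w fun b hb => by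
      have h3 : C₀ ⊔ zpowers a ≤ centralizer ({w} : Set G) := sup_le
        (fun c hc => mem_cent.2 (mem_centralizer_iff.1 hc.2 w hw.1))
        (zpowers_le.2 (mem_cent.2 (mem_cent.1 hw.2).symm))
      exact mem_cent.1 (h3 (hgen hb)), hw.1⟩
    have h4 := B.elem.card_le_sq (B.sq a ha)
    have h5 := Subgroup.card_le_of_le hfix
    have h6 := Nat.mul_le_mul h5 h5
    have := B.big
    refine le_of_card hUC ?_
    rcases pow_cases B.isP (A ⊓ W) with e | e | e | e | e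
    · omega
    · rw [e] at h6; omega
    all_goals omega
  all_goals omega

theorem cases (B : Base A W) (hAW : ¬A ≤ centralizer (W : Set G)) :
    Nat.card ↥(A ⊓ W) = 2 ∨ Nat.card ↥(A ⊓ W) = 4 := by
  obtain ⟨a, ha, haC⟩ := SetLike.not_le_iff_exists.1 hAW
  have h1 : 2 * Nat.card ↥(A ⊓ W) ≤ 8 := B.card8 ▸ two_mul_card_le inf_le_left ha (fun h =>
    haC (mem_centralizer_iff.2 fun w hw => B.elem.comm w hw a h.2))
  have := B.two_le
  rcases pow_cases B.isP (A ⊓ W) with h | h | h | h | h <;> omega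

/-- One involution outside `W`. -/
structure One (B : Base A W) (a : G) : Prop where
  mem : a ∈ A
  notMem : a ∉ W
  card4 : Nat.card ↥(A ⊓ W) = 4

namespace One

variable {B : Base A W} {a : G}

theorem gen (O : B.One a) : A ≤ (A ⊓ W) ⊔ zpowers a := by
  have h2 : 2 * Nat.card ↥(A ⊓ W) ≤ Nat.card ↥((A ⊓ W) ⊔ zpowers a) :=
    two_mul_card_le le_sup_left (mem_sup_right (mem_zpowers a)) (fun h => O.notMem h.2)
  exact le_of_card (sup_le inf_le_left (zpowers_le.2 O.mem)) (by have := B.card8; have := O.card4; omega)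

theorem mem_A (O : B.One a) {g : G} (h : ∀ u ∈ A ⊓ W, g * u = u * g) (ha : g * a = a * g) : g ∈ A :=
  B.cent g fun b hb => by
    have h3 : (A ⊓ W) ⊔ zpowers a ≤ centralizer ({g} : Set G) :=
      sup_le (fun u hu => mem_cent.2 (h u hu)) (zpowers_le.2 (mem_cent.2 ha))
    exact mem_cent.1 (h3 (O.gen hb))

theorem fix (O : B.One a) : W ⊓ centralizer ({a} : Set G) = A ⊓ W :=
  le_antisymm (fun w hw => ⟨O.mem_A (fun u hu => B.elem.comm w hw.1 u hu.2) (mem_cent.1 hw.2).symm, hw.1⟩)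
    fun u hu => ⟨hu.2, mem_cent.2 (B.comm a O.mem u hu.1)⟩

theorem rng_le (O : B.One a) : B.elem.rng (le_refl W) a ≤ A ⊓ W :=
  O.fix ▸ B.elem.rng_le_fix _ (B.sq a O.mem)

theorem card_rng (O : B.One a) : 4 * Nat.card ↥(B.elem.rng (le_refl W) a) = Nat.card W := by
  have h := B.elem.card_split (le_refl W) a
  rwa [O.fix, O.card4] at h

theorem card_le (O : B.One a) : Nat.card W ≤ 16 := by
  have := B.elem.card_le_sq (B.sq a O.mem)
  rwa [O.fix, O.card4] at this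

theorem kill (O : B.One a) {g : G} (hc : dd g a ∈ B.elem.rng (le_refl W) a) :
    ∃ w ∈ W, dd (w * g) a = 1 := by
  obtain ⟨w, hw, e⟩ := (B.elem.mem_rng _).1 hc
  have hcW : dd g a ∈ W := e ▸ B.elem.dd_mem a hw
  exact ⟨w, hw, by rw [dd_left B.elem hcW hw, e, B.elem.sq _ hcW]⟩

theorem mem_U (O : B.One a) {g : G} (hc : dd g a ∈ W) : dd g a ∈ A ⊓ W :=
  O.fix ▸ ⟨hc, mem_cent.2 (invol_dd_fix B.elem (B.sq a O.mem) hc)⟩

theorem exists_basis (O : B.One a) : ∃ u₀ u : G, (∀ g : G, g * u₀ = u₀ * g) ∧ u₀ ∈ A ⊓ W ∧ u₀ * u₀ = 1 ∧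
    u₀ ≠ 1 ∧ u ∈ A ⊓ W ∧ u ∉ zpowers u₀ ∧ A ⊓ W ≤ zpowers u₀ ⊔ zpowers u := by
  obtain ⟨u₀, hu₀, hu2, hu1, huc⟩ := B.exists_central
  have hc := card_zpowers_invol hu2 hu1
  obtain ⟨u, hu, hu'⟩ := SetLike.not_le_iff_exists.1 (show ¬A ⊓ W ≤ zpowers u₀ from fun h => by
    have := Subgroup.card_le_of_le h; have := O.card4; omega)
  have h2 : 2 * Nat.card (zpowers u₀) ≤ Nat.card ↥(zpowers u₀ ⊔ zpowers u) :=
    two_mul_card_le le_sup_left (mem_sup_right (mem_zpowers u)) hu'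
  exact ⟨u₀, u, huc, hu₀, hu2, hu1, hu, hu', le_of_card (sup_le (zpowers_le.2 hu₀) (zpowers_le.2 hu))
    (by have := O.card4; omega)⟩

theorem conj_U (O : B.One a) {g : G} (hg : g ∈ centralizer ({a} : Set G)) {u : G} (hu : u ∈ A ⊓ W) :
    g * u * g⁻¹ ∈ A ⊓ W := by
  rw [← O.fix] at hu ⊢
  exact ⟨B.elem.normal.conj_mem u hu.1 g,
    Subgroup.mul_mem _ (Subgroup.mul_mem _ hg hu.2) (Subgroup.inv_mem _ hg)⟩

theorem card_cent (O : B.One a) : Nat.card ↥(centralizer ({a} : Set G)) ≤ 16 := by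
  obtain ⟨u₀, u, huc, hu₀, hu2, hu1, hu, hu', hgen⟩ := O.exists_basis
  have hmem : ∀ g ∈ centralizer ({a} : Set G), g * u = u * g → g ∈ A := fun g hg h =>
    O.mem_A (fun v hv => by
      have h3 : zpowers u₀ ⊔ zpowers u ≤ centralizer ({g} : Set G) :=
        sup_le (zpowers_le.2 (mem_cent.2 (huc g))) (zpowers_le.2 (mem_cent.2 h))
      exact mem_cent.1 (h3 (hgen hv))) (mem_cent.1 hg).symm
  have hdd : ∀ g ∈ centralizer ({a} : Set G), dd g u = 1 ∨ dd g u = u₀ := fun g hg => by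
    refine mem_zpowers_invol hu2 (mul_mem_of_two (zpowers_le.2 hu₀) ?_ (O.conj_U hg hu) (fun h => hu' ?_)
      ((A ⊓ W).inv_mem hu) (fun h => hu' (by simpa using (zpowers u₀).inv_mem h)))
    · have := card_zpowers_invol hu2 hu1; have := O.card4; omega
    · haveI := central_zpowers_normal huc
      have := Subgroup.Normal.conj_mem inferInstance _ h g⁻¹
      rwa [show g⁻¹ * (g * u * g⁻¹) * g⁻¹⁻¹ = u by group] at this
  suffices h : Nat.card ↥(centralizer ({a} : Set G)) ≤ 2 * Nat.card A by have := B.card8; omega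
  by_cases hm : ∃ g₀ ∈ centralizer ({a} : Set G), dd g₀ u = u₀
  · obtain ⟨g₀, hg₀, e₀⟩ := hm
    refine card_le_two_mul g₀ fun g hg => ?_
    rcases hdd g hg with e | e
    · exact Or.inl (hmem g hg (dd_eq_one.1 e))
    · exact Or.inr (hmem _ (Subgroup.mul_mem _ (Subgroup.inv_mem _ hg₀) hg) (sep_of_dd (e₀.trans e.symm)))
  · push_neg at hm
    exact card_le_two_mul 1 fun g hg => Or.inl (hmem g hg (dd_eq_one.1 ((hdd g hg).resolve_right (hm g hg))))

theorem fix_small (O : B.One a) {g : G} (hg : g ∈ centralizer ({a} : Set G)) (hgW : g ∉ W) :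
    Nat.card ↥(W ⊓ centralizer ({g} : Set G)) ≤ 4 := by
  by_cases hU : ∀ u ∈ A ⊓ W, g * u = u * g
  · have O' : B.One g := ⟨O.mem_A hU (mem_cent.1 hg).symm, hgW, O.card4⟩
    rw [O'.fix, O.card4]
  push_neg at hU
  obtain ⟨u, hu, hug⟩ := hU
  have hlt := two_mul_card_le (inf_le_left : (A ⊓ W) ⊓ centralizer ({g} : Set G) ≤ A ⊓ W) hu
    (fun h => hug (mem_cent.1 h.2))
  have h1 : W ⊓ centralizer ({g} : Set G) ⊓ centralizer ({a} : Set G) ≤ A ⊓ W ⊓ centralizer ({g} : Set G) :=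
    fun v hv => ⟨O.fix.le ⟨hv.1.1, hv.2⟩, hv.1.2⟩
  have h2 : B.elem.rng (inf_le_left : W ⊓ centralizer ({g} : Set G) ≤ W) a ≤
      A ⊓ W ⊓ centralizer ({g} : Set G) := fun v hv => by
    refine ⟨O.fix.le (B.elem.rng_le_fix _ (B.sq a O.mem) hv), ?_⟩
    obtain ⟨w, hw, rfl⟩ := (B.elem.mem_rng _).1 hv
    have ha' : a ∈ centralizer ({g} : Set G) := mem_cent.2 (mem_cent.1 hg).symm
    exact Subgroup.mul_mem _ (Subgroup.mul_mem _ (Subgroup.mul_mem _ ha' hw.2) (Subgroup.inv_mem _ ha'))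
      (Subgroup.inv_mem _ hw.2)
  have h3 := B.elem.card_split (inf_le_left : W ⊓ centralizer ({g} : Set G) ≤ W) a
  have h4 := Nat.mul_le_mul (Subgroup.card_le_of_le h1) (Subgroup.card_le_of_le h2)
  have h5 : Nat.card ↥(A ⊓ W ⊓ centralizer ({g} : Set G)) ≤ 2 := by have := O.card4; omega
  have h6 := Nat.mul_le_mul h5 h5
  omega

end One

theorem exists_pair (B : Base A W) (hU : Nat.card ↥(A ⊓ W) = 2) {a : G} (ha : a ∈ A) (haW : a ∉ W) :
    ∃ b ∈ A, b ∉ W ∧ Pair W (A ⊓ W) a b ∧ A ≤ (A ⊓ W) ⊔ zpowers a ⊔ zpowers b := by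
  have h4 : Nat.card ↥((A ⊓ W) ⊔ zpowers a) ≤ 4 := by
    have := card_sup_two (K := A ⊓ W) (x := a)
      (fun k hk => by rw [B.comm a ha k hk.1, mul_inv_cancel_right]; exact hk)
      (by rw [B.sq a ha]; exact Subgroup.one_mem _)
    omega
  obtain ⟨b, hb, hb'⟩ := SetLike.not_le_iff_exists.1 (show ¬A ≤ (A ⊓ W) ⊔ zpowers a from fun h => by
    have := Subgroup.card_le_of_le h; have := B.card8; omega)
  have hgen : A ≤ (A ⊓ W) ⊔ zpowers a ⊔ zpowers b := by
    refine le_of_card (sup_le (sup_le inf_le_left (zpowers_le.2 ha)) (zpowers_le.2 hb)) ?_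
    have h1 : 2 * Nat.card ↥(A ⊓ W) ≤ Nat.card ↥((A ⊓ W) ⊔ zpowers a) :=
      two_mul_card_le le_sup_left (mem_sup_right (mem_zpowers a)) (fun h => haW h.2)
    have h2 : 2 * Nat.card ↥((A ⊓ W) ⊔ zpowers a) ≤ Nat.card ↥((A ⊓ W) ⊔ zpowers a ⊔ zpowers b) :=
      two_mul_card_le le_sup_left (mem_sup_right (mem_zpowers b)) hb'
    have := B.card8
    omega
  refine ⟨b, hb, fun h => hb' (mem_sup_left ⟨hb, h⟩), ⟨B.isP, B.elem, B.big, B.sq a ha, B.sq b hb,
    B.comm a ha b hb, inf_le_right, hU, fun u hu => B.comm a ha u hu.1, fun u hu => B.comm b hb u hu.1,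
    fun w hw hwa hwb => ⟨B.cent w fun c hc => ?_, hw⟩⟩, hgen⟩
  have h3 : (A ⊓ W) ⊔ zpowers a ⊔ zpowers b ≤ centralizer ({w} : Set G) := sup_le (sup_le
    (fun u hu => mem_cent.2 (B.elem.comm w hw u hu.2)) (zpowers_le.2 (mem_cent.2 hwa.symm)))
    (zpowers_le.2 (mem_cent.2 hwb.symm))
  exact mem_cent.1 (h3 (hgen hc))

theorem mem_of_pair (B : Base A W) {a b g : G} (hgen : A ≤ (A ⊓ W) ⊔ zpowers a ⊔ zpowers b)
    (hg : ∀ u ∈ A ⊓ W, g * u = u * g) (ha : dd g a = 1) (hb : dd g b = 1) : g ∈ A := B.cent g fun c hc => by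
  have h3 : (A ⊓ W) ⊔ zpowers a ⊔ zpowers b ≤ centralizer ({g} : Set G) := sup_le (sup_le
    (fun u hu => mem_cent.2 (hg u hu)) (zpowers_le.2 (mem_cent.2 (dd_eq_one.1 ha))))
    (zpowers_le.2 (mem_cent.2 (dd_eq_one.1 hb)))
  exact mem_cent.1 (h3 (hgen hc))

theorem central_U (B : Base A W) (hU : Nat.card ↥(A ⊓ W) = 2) (g : G) {v : G} (hv : v ∈ A ⊓ W) : g * v = v * g := by
  obtain ⟨u, hu, hu2, hu1, huc⟩ := B.exists_central
  have h1 : A ⊓ W ≤ zpowers u := le_of_card (zpowers_le.2 hu) (by rw [card_zpowers_invol hu2 hu1, hU])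
  rcases mem_zpowers_invol hu2 (h1 hv) with rfl | rfl
  · rw [mul_one, one_mul]
  · exact huc g

end Base

end CfsgLib.PGroup.SelfEight
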