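import Mathlib
import Cfsg.Agent.Lib.PGroup.MacWilliams.Main
import Cfsg.Agent.Lib.PGroup.SelfCentralEight.Base

/-!
The sectional rank bound.
-/

set_option autoImplicit false

namespace CfsgLib.PGroup.SelfEight

open Subgroup CfsgLib.PGroup.MacWilliams

universe u

variable {G : Type u} [Group G] [Finite G] {A W : Subgroup G}

/-- An element of `C(W)` outside `W`, central of order two modulo `W`. -/
structure Extra (A W : Subgroup G) (x : G) : Prop where
  base : Base A W
  nAW : ¬A ≤ centralizer (W : Set G)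
  memC : x ∈ centralizer (W : Set G)
  notMem : x ∉ W
  central : ∀ s, dd s x ∈ W
  sqW : x * x ∈ W

namespace Extra

variable {x : G}

theorem comm (X : Extra A W x) {w : G} (hw : w ∈ W) : x * w = w * x :=
  (mem_centralizer_iff.1 X.memC w hw).symm

theorem central' (X : Extra A W x) (s : G) : dd x s ∈ W := dd_mem_symm (X.central s)

theorem symm_dd (X : Extra A W x) (s : G) : dd x s = dd s x := by
  rw [← dd_inv s x, X.base.elem.inv_eq (X.central s)]

theorem mem_sup (X : Extra A W x) {g : G} (hg : g ∈ W ⊔ zpowers x) : g ∈ W ∨ x⁻¹ * g ∈ W :=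
  mem_sup_two (fun w hw => by rw [X.comm hw, mul_inv_cancel_right]; exact hw) X.sqW hg

theorem sup_normal (X : Extra A W x) : (W ⊔ zpowers x).Normal := by
  refine ⟨fun g hg s => ?_⟩
  rcases X.mem_sup hg with h | h
  · exact mem_sup_left (X.base.elem.normal.conj_mem g h s)
  · rw [show s * g * s⁻¹ = dd s x * x * (s * (x⁻¹ * g) * s⁻¹) by simp only [dd]; group]
    exact Subgroup.mul_mem _ (Subgroup.mul_mem _ (mem_sup_left (X.central s))
      (mem_sup_right (mem_zpowers x))) (mem_sup_left (X.base.elem.normal.conj_mem _ h s))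

theorem sq_ne (X : Extra A W x) : x * x ≠ 1 := by
  intro h
  refine X.notMem (X.base.max (W ⊔ zpowers x) ⟨X.sup_normal, ?_, ?_⟩ le_sup_left (mem_sup_right (mem_zpowers x)))
  · intro a ha b hb
    have hW : W ≤ centralizer ({x} : Set G) := fun w hw => mem_cent.2 (X.comm hw)
    have hx : W ⊔ zpowers x ≤ centralizer ({x} : Set G) := sup_le hW (zpowers_le.2 (mem_cent.2 rfl))
    have hcw : ∀ w ∈ W, W ⊔ zpowers x ≤ centralizer ({w} : Set G) := fun w hw => sup_le
      (fun v hv => mem_cent.2 (X.base.elem.comm w hw v hv)) (zpowers_le.2 (mem_cent.2 (X.comm hw).symm))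
    have hax : W ⊔ zpowers x ≤ centralizer ({a} : Set G) := sup_le
      (fun w hw => mem_cent.2 (mem_cent.1 (hcw w hw ha)).symm) (zpowers_le.2 (mem_cent.2 (mem_cent.1 (hx ha)).symm))
    exact mem_cent.1 (hax hb)
  · intro g hg
    rcases X.mem_sup hg with hg | hg
    · exact X.base.elem.sq g hg
    · rw [show g * g = x * (x⁻¹ * g * x) * (x⁻¹ * g) by group, ← X.comm hg, ← mul_assoc x, h, one_mul,
        X.base.elem.sq _ hg]

theorem sq_central (X : Extra A W x) (g : G) : g * (x * x) = x * x * g := by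
  have h1 : g * (x * x) * g⁻¹ = x * x := by
    calc g * (x * x) * g⁻¹ = g * x * g⁻¹ * (g * x * g⁻¹) := by group
      _ = dd g x * (x * dd g x) * x := by rw [conj_eq]; group
      _ = dd g x * dd g x * (x * x) := by rw [X.comm (X.central g)]; group
      _ = x * x := by rw [X.base.elem.sq _ (X.central g), one_mul]
  exact mul_inv_eq_iff_eq_mul.1 h1

theorem sq_mem (X : Extra A W x) : x * x ∈ A ⊓ W :=
  ⟨X.base.cent _ fun a _ => (X.sq_central a).symm, X.sqW⟩

theorem sq_sq (X : Extra A W x) : x * x * (x * x) = 1 := X.base.elem.sq _ X.sqW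

theorem card_T0 (X : Extra A W x) : Nat.card (zpowers (x * x)) = 2 := card_zpowers_invol X.sq_sq X.sq_ne

theorem sq_translate (X : Extra A W x) {g : G} (hg : x⁻¹ * g ∈ W) : g * g = x * x := by
  calc g * g = x * ((x⁻¹ * g) * x) * (x⁻¹ * g) := by group
    _ = x * (x * (x⁻¹ * g)) * (x⁻¹ * g) := by rw [X.comm hg]
    _ = x * x * ((x⁻¹ * g) * (x⁻¹ * g)) := by group
    _ = x * x := by rw [X.base.elem.sq _ hg, mul_one]

theorem not_fixed (X : Extra A W x) {w : G} (hw : w ∈ W) (h : w * x ∈ A) : False :=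
  X.sq_ne ((X.sq_translate (g := w * x) (by rwa [← X.comm hw, inv_mul_cancel_left])).symm.trans (X.base.sq _ h))

theorem commU (X : Extra A W x) {g w : G} (hg : g ∈ centralizer (W : Set G)) (hw : w ∈ W) :
    ∀ u ∈ A ⊓ W, w * g * u = u * (w * g) := fun u hu => by
  have h1 : w * g ∈ centralizer (W : Set G) :=
    Subgroup.mul_mem _ (mem_centralizer_iff.2 fun v hv => X.base.elem.comm v hv w hw) hg
  exact (mem_centralizer_iff.1 h1 u hu.2).symm

theorem adjust (X : Extra A W x) {g a : G} (hc : dd g a ∈ W) : dd (x⁻¹ * g) a = dd g a * dd x a := by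
  have h1 : dd x⁻¹ a = dd x a := by
    have h2 : x⁻¹ * dd x a = dd x a * x⁻¹ :=
      ((Commute.symm (X.comm (X.central' a) : Commute x (dd x a))).inv_right).eq.symm
    calc dd x⁻¹ a = x⁻¹ * (dd x a)⁻¹ * x := by simp only [dd]; group
      _ = dd x a := by rw [X.base.elem.inv_eq (X.central' a), h2, inv_mul_cancel_right]
  rw [dd_mul_left, h1, show dd x⁻¹ (dd g a) = 1 from dd_eq_one.2
    (((Commute.symm (X.comm hc : Commute x (dd g a))).inv_right).eq.symm), one_mul]

theorem eight (X : Extra A W x) : Nat.card W = 8 := by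
  rcases X.base.cases X.nAW with hU | hU
  · obtain ⟨a, ha, haW⟩ := SetLike.not_le_iff_exists.1 X.nAW
    replace haW : a ∉ W := fun h => haW (mem_centralizer_iff.2 fun w hw => X.base.elem.comm w hw a h)
    obtain ⟨b, hb, -, P, hgen⟩ := X.base.exists_pair hU ha haW
    rcases pow_cases X.base.isP W with h | h | h | h | h
    all_goals try (have := X.base.big; omega)
    exfalso
    have h16 : Nat.card W = 16 := by have := P.card_le; omega
    obtain ⟨w, hw, h1, h2⟩ := P.kill_sixteen h16 (X.central' a) (X.central' b)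
    exact X.not_fixed hw (X.base.mem_of_pair hgen (X.commU X.memC hw) h1 h2)
  · obtain ⟨a, ha, haW⟩ := SetLike.not_le_iff_exists.1 X.nAW
    replace haW : a ∉ W := fun h => haW (mem_centralizer_iff.2 fun w hw => X.base.elem.comm w hw a h)
    have O : X.base.One a := ⟨ha, haW, hU⟩
    rcases pow_cases X.base.isP W with h | h | h | h | h
    all_goals try (have := X.base.big; omega)
    exfalso
    have h16 := O.card_le
    have hr := O.card_rng
    have hle : A ⊓ W ≤ X.base.elem.rng (le_refl W) a := le_of_card O.rng_le (by omega)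
    obtain ⟨w, hw, h1⟩ := O.kill (hle (O.mem_U (X.central' a)))
    exact X.not_fixed hw (O.mem_A (X.commU X.memC hw) (dd_eq_one.1 h1))

/-- The elements moving `W` only inside the square of `x`. -/
def transv (X : Extra A W x) : Subgroup G where
  carrier := {g | ∀ w ∈ W, dd g w ∈ zpowers (x * x)}
  one_mem' := fun w _ => by simp [dd]
  mul_mem' := fun {g h} hg hh w hw => by
    rw [dd_mul_left]
    have h1 : dd g (dd h w) = 1 := dd_eq_one.2
      (mem_center_iff.1 (zpowers_le.2 (mem_center_iff.2 X.sq_central) (hh w hw)) g)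
    rw [h1, one_mul]
    exact Subgroup.mul_mem _ (hh w hw) (hg w hw)
  inv_mem' := fun {g} hg w hw => by
    have h1 := (zpowers (x * x)).inv_mem (hg _ (X.base.elem.normal.conj_mem w hw g⁻¹))
    rwa [show (dd g (g⁻¹ * w * g⁻¹⁻¹))⁻¹ = dd g⁻¹ w by simp only [dd]; group] at h1

theorem two_step (X : Extra A W x) (hY : centralizer (W : Set G) ≤ W ⊔ zpowers x) (hT : A ≤ X.transv) {a₀ : G}
    (ha₀ : a₀ ∈ A) (hm : dd x a₀ ∉ zpowers (x * x)) (H : Subgroup G) : Four H := by
  classical
  have hP := X.base.isP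
  have e := X.base.elem
  have h8 := X.eight
  have hT0 := X.card_T0
  obtain ⟨g₁, hg₁, g₂, hg₂, hc⟩ := aut_eight hP e h8 H
  have hD8 : Nat.card ↥(H ⊓ W) ≤ 8 := h8 ▸ Subgroup.card_le_of_le inf_le_right
  have hWH : ¬Nat.card ↥(H ⊓ W) ≤ 4 → W ≤ H := fun h => by
    refine (le_of_card (inf_le_right : H ⊓ W ≤ W) ?_).trans inf_le_left
    rcases pow_cases hP (H ⊓ W) with h' | h' | h' | h' | h' <;> omega
  by_cases hv : ∃ v ∈ H, x⁻¹ * v ∈ W
  · obtain ⟨v, hv, hvx⟩ := hv
    have hcov : ∀ h ∈ H, ∃ k ∈ closure ({g₁, g₂, v} : Set G), k⁻¹ * h ∈ W := fun h hh => by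
      obtain ⟨k, hk, hkh⟩ := hc h hh
      have hk' : k ∈ closure ({g₁, g₂, v} : Set G) := closure_mono (by intro s; simp; tauto) hk
      rcases X.mem_sup (hY hkh) with h1 | h1
      · exact ⟨k, hk', h1⟩
      · refine ⟨k * v, Subgroup.mul_mem _ hk' (subset_closure (by simp)), ?_⟩
        have := W.mul_mem (W.inv_mem hvx) h1
        rwa [show (x⁻¹ * v)⁻¹ * (x⁻¹ * (k⁻¹ * h)) = (k * v)⁻¹ * h by group] at this
    have hK : zpowers (x * x) ≤ H ⊓ W :=
      zpowers_le.2 ⟨X.sq_translate hvx ▸ H.mul_mem hv hv, X.sqW⟩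
    have hK' : ∀ M : Subgroup G, M ≤ H → (∀ g ∈ H, g * g ∈ M) → zpowers (x * x) ≤ M := fun M _ hsq =>
      zpowers_le.2 (X.sq_translate hvx ▸ hsq v hv)
    by_cases h4 : Nat.card ↥(H ⊓ W) ≤ 4
    · exact four_three hP hg₁ hg₂ hv hcov hK hK' (by omega)
    have hW := hWH h4
    have hx : x ∈ H := by
      have := H.mul_mem hv (H.inv_mem (hW hvx))
      rwa [show v * (x⁻¹ * v)⁻¹ = x by group] at this
    by_cases hgain : ∃ c ∈ H ⊓ W, c ∉ zpowers (x * x) ∧
        ∀ M : Subgroup G, M ≤ H → (∀ g ∈ H, g * g ∈ M) → c ∈ M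
    · obtain ⟨c, hc', hcT, hcM⟩ := hgain
      refine four_three hP hg₁ hg₂ hv hcov (sup_le hK (zpowers_le.2 hc'))
        (fun M hM hsq => sup_le (hK' M hM hsq) (zpowers_le.2 (hcM M hM hsq))) ?_
      have := two_mul_card_le (le_sup_left : zpowers (x * x) ≤ zpowers (x * x) ⊔ zpowers c)
        (mem_sup_right (mem_zpowers c)) hcT
      omega
    push_neg at hgain
    have hddm : ∀ g ∈ H, ∀ h ∈ H, dd g h ∈ W → dd g h ∈ zpowers (x * x) := fun g hg h hh hW' => by
      by_contra hn
      obtain ⟨M, hM, hsq, hnM⟩ := hgain _ ⟨H.mul_mem (H.mul_mem (H.mul_mem hg hh) (H.inv_mem hg))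
        (H.inv_mem hh), hW'⟩ hn
      exact hnM (dd_mem_of_sq hsq hg hh)
    have hHT : H ≤ X.transv := fun h hh w hw => hddm h hh w (hW hw) (e.dd_mem h hw)
    haveI := e.normal
    set π := QuotientGroup.mk' (centralizer (W : Set G))
    -- at most four classes
    obtain ⟨w₁, hw₁, l₁, c₁⟩ := step (zpowers_le.2 X.sqW) 2 (show Nat.card W ≤ 2 * 2 * Nat.card (zpowers (x * x)) by omega)
    obtain ⟨w₂, hw₂, l₂, c₂⟩ := step l₁ 1 c₁
    rw [one_mul] at c₂
    have hgen : W ≤ closure ({x * x, w₁, w₂} : Set G) :=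
      (le_of_card l₂ c₂).trans (sup_le (sup_le (zpowers_le.2 (subset_closure (by simp)))
        (zpowers_le.2 (subset_closure (by simp)))) (zpowers_le.2 (subset_closure (by simp))))
    have hTc : Nat.card ↥(X.transv.map π) ≤ 4 := by
      refine (card_map_le_of_sep (fun g => (decide (dd g w₁ = 1), decide (dd g w₂ = 1))) ?_).trans (by simp)
      intro g hg g' hg' he
      simp only [Prod.mk.injEq, decide_eq_decide] at he
      have hsame : ∀ w ∈ W, (dd g w = 1 ↔ dd g' w = 1) → g⁻¹ * g' * w = w * (g⁻¹ * g') := fun w hw hi => by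
        apply sep_of_dd
        rcases mem_zpowers_invol X.sq_sq (hg w hw) with h1 | h1 <;>
          rcases mem_zpowers_invol X.sq_sq (hg' w hw) with h2 | h2
        · rw [h1, h2]
        · exact h1.trans (hi.1 h1).symm
        · exact (hi.2 h2).trans h2.symm
        · rw [h1, h2]
      refine mem_cent_of_le_closure hgen fun s hs => ?_
      rcases hs with rfl | rfl | rfl
      exacts [X.sq_central _, hsame _ hw₁ he.1, hsame _ hw₂ he.2]
    by_cases hlt : π a₀ ∈ H.map π
    · exfalso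
      obtain ⟨h, hh, he⟩ := hlt
      have h1 : h⁻¹ * a₀ ∈ H := (sup_le hW (zpowers_le.2 hx)) (hY (mk_eq_mk.1 he))
      have ha : a₀ ∈ H := by
        have := H.mul_mem hh h1
        rwa [mul_inv_cancel_left] at this
      refine hm ?_
      rw [X.symm_dd a₀]
      exact hddm a₀ ha x hx (X.central a₀)
    have h2 : 2 * Nat.card ↥(H.map π) ≤ Nat.card ↥(X.transv.map π) :=
      two_mul_card_le (map_mono hHT) (Subgroup.mem_map_of_mem π (hT ha₀)) hlt
    obtain ⟨q, hq, l, c⟩ := step (bot_le : ⊥ ≤ H.map π) 1 (by rw [card_bot]; omega)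
    rw [one_mul] at c
    obtain ⟨g, hg, rfl⟩ := hq
    have hle : H.map π ≤ closure (π '' {g}) := (le_of_card l c).trans (sup_le bot_le (by
      rw [Set.image_singleton, zpowers_eq_closure]))
    refine four_two hP hg hx (fun h hh => ?_) hK hK' (by omega)
    obtain ⟨k, hk, hkh⟩ := cover_of_image hle h hh
    have hk' : k ∈ closure ({g, x} : Set G) := closure_mono (by intro s; simp; tauto) hk
    rcases X.mem_sup (hY hkh) with h1 | h1
    · exact ⟨k, hk', h1⟩
    · refine ⟨k * x, Subgroup.mul_mem _ hk' (subset_closure (by simp)), ?_⟩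
      rwa [show (k * x)⁻¹ * h = x⁻¹ * (k⁻¹ * h) by group]
  push_neg at hv
  have hHY : ∀ h ∈ H, h ∈ centralizer (W : Set G) → h ∈ W := fun h hh hC =>
    (X.mem_sup (hY hC)).resolve_right (hv h hh)
  have hcov : ∀ h ∈ H, ∃ k ∈ closure ({g₁, g₂} : Set G), k⁻¹ * h ∈ W := fun h hh => by
    obtain ⟨k, hk, hkh⟩ := hc h hh
    refine ⟨k, hk, hHY _ (H.mul_mem (H.inv_mem ?_) hh) hkh⟩
    exact (closure_le H).2 (Set.insert_subset hg₁ (Set.singleton_subset_iff.2 hg₂)) hk
  by_cases h4 : Nat.card ↥(H ⊓ W) ≤ 4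
  · exact four_two hP hg₁ hg₂ hcov bot_le (fun _ _ _ => bot_le) (by rw [card_bot]; omega)
  by_cases hHW : H ≤ W
  · exact four_zero hP hHW (by omega)
  obtain ⟨h₀, hh₀, hh₀W⟩ := SetLike.not_le_iff_exists.1 hHW
  refine four_two hP hg₁ hg₂ hcov (rng_gain e hh₀).1 (rng_gain e hh₀).2 ?_
  have h1 := e.card_split (inf_le_right : H ⊓ W ≤ W) h₀
  obtain ⟨w, hw, hwh⟩ := SetLike.not_le_iff_exists.1
    (show ¬W ≤ centralizer ({h₀} : Set G) from fun h => hh₀W (hHY h₀ hh₀ (mem_centralizer_iff.2 fun w hw =>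
      (mem_cent.1 (h hw)).symm)))
  have h3 := two_mul_card_le (inf_le_left : H ⊓ W ⊓ centralizer ({h₀} : Set G) ≤ H ⊓ W) ⟨hWH h4 hw, hw⟩
    (fun h => hwh h.2)
  nlinarith

theorem mem_W_of_dd_mem_sup (X : Extra A W x) {y a : G} (ha : a ∈ A)
    (hW : ∀ w ∈ W, dd a w ∈ zpowers (x * x)) (hm : dd x a ∉ zpowers (x * x))
    (h : dd y a ∈ W ⊔ zpowers x) : dd y a ∈ W := by
  refine (X.mem_sup h).resolve_right fun hw => hm ?_
  set c := dd y a with hc
  set w := x⁻¹ * c with hw'
  have hcw : c = x * w := by rw [hw', mul_inv_cancel_left]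
  have hai : a⁻¹ = a := inv_eq_of_mul_eq_one_right (X.base.sq a ha)
  have h1 : c * (a * c * a⁻¹) = 1 := by
    have h2 : c * a * (c * a) = 1 := by
      rw [hc, ← conj_eq, show y * a * y⁻¹ * (y * a * y⁻¹) = y * (a * a) * y⁻¹ by group, X.base.sq a ha, mul_one,
        mul_inv_cancel]
    rw [hai, ← mul_assoc, ← mul_assoc, mul_assoc (c * a)]
    exact h2
  have hax : a * x * a⁻¹ = dd x a * x := by rw [conj_eq, X.symm_dd]
  have haw : a * w * a⁻¹ = dd a w * w := conj_eq a w
  rw [hcw, show a * (x * w) * a⁻¹ = a * x * a⁻¹ * (a * w * a⁻¹) by group, hax, haw] at h1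
  set m := dd x a
  set t := dd a w
  have hmW := X.central' a
  have htW : t ∈ W := X.base.elem.dd_mem a hw
  have hmt : w * m * (t * w) = m * t := by
    rw [show w * m * (t * w) = w * (m * t) * w by group, X.base.elem.comm w hw _ (W.mul_mem hmW htW), mul_assoc,
      X.base.elem.sq w hw, mul_one]
  have h3 : x * x * m * t = 1 := by
    calc x * x * m * t = x * x * (w * m * (t * w)) := by rw [hmt, mul_assoc (x * x)]
      _ = x * (x * (w * m)) * (t * w) := by group
      _ = x * (w * m * x) * (t * w) := by rw [X.comm (W.mul_mem hw hmW)]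
      _ = x * w * (m * x * (t * w)) := by group
      _ = 1 := h1
  have h4 : m = (x * x)⁻¹ * t⁻¹ := by
    calc m = (x * x)⁻¹ * (x * x * m * t) * t⁻¹ := by group
      _ = (x * x)⁻¹ * t⁻¹ := by rw [h3, mul_one]
  rw [h4]
  exact Subgroup.mul_mem _ (Subgroup.inv_mem _ (mem_zpowers _)) (Subgroup.inv_mem _ (hW w hw))

theorem four (X : Extra A W x) (H : Subgroup G) : Four H := by
  have B := X.base
  have h8 := X.eight
  have hP := B.isP
  haveI := B.elem.normal
  haveI := X.sup_normal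
  obtain ⟨a, ha, haW⟩ := SetLike.not_le_iff_exists.1 X.nAW
  replace haW : a ∉ W := fun h => haW (mem_centralizer_iff.2 fun w hw => B.elem.comm w hw a h)
  have hint : ∀ g ∈ centralizer (W : Set G), ∀ w ∈ W, w * g ∈ A → g ∈ W := fun g hg w hw h => by
    have h1 : w * g ∈ W := B.inter X.nAW ⟨h,
      Subgroup.mul_mem _ (mem_centralizer_iff.2 fun v hv => B.elem.comm v hv w hw) hg⟩
    simpa using W.mul_mem (W.inv_mem hw) h1
  have hback : ∀ y : G, x⁻¹ * y ∈ W ⊔ zpowers x → y ∈ W ⊔ zpowers x := fun y h => by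
    simpa using Subgroup.mul_mem _ (mem_sup_right (mem_zpowers x)) h
  have hCx : ∀ y ∈ centralizer (W : Set G), x⁻¹ * y ∈ centralizer (W : Set G) := fun y hy =>
    Subgroup.mul_mem _ (Subgroup.inv_mem _ X.memC) hy
  rcases B.cases X.nAW with hU | hU
  · -- fixed points of order two
    obtain ⟨b, hb, hbW, P, hgen⟩ := B.exists_pair hU ha haW
    have hUT : A ⊓ W ≤ zpowers (x * x) := le_of_card (zpowers_le.2 X.sq_mem) (by rw [X.card_T0, hU])
    have hTa : ∀ w ∈ W, dd a w ∈ zpowers (x * x) := fun w hw =>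
      hUT (P.rng_le_of_eight h8 ((P.elem.mem_rng _).2 ⟨w, hw, rfl⟩))
    have hTb : ∀ w ∈ W, dd b w ∈ zpowers (x * x) := fun w hw =>
      hUT (P.symm.rng_le_of_eight h8 ((P.elem.mem_rng _).2 ⟨w, hw, rfl⟩))
    have hT : A ≤ X.transv := hgen.trans (sup_le (sup_le (fun u hu w hw => by
      rw [dd_eq_one.2 (B.elem.comm u hu.2 w hw)]; exact Subgroup.one_mem _) (zpowers_le.2 hTa)) (zpowers_le.2 hTb))
    have hTU : zpowers (x * x) ≤ A ⊓ W := zpowers_le.2 X.sq_mem
    have hma : dd x a ∉ zpowers (x * x) := fun h => by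
      obtain ⟨w, hw, h1, h2⟩ := P.kill_of_mem_U (X.central' a) (X.central' b) (hTU h)
      exact X.not_fixed hw (B.mem_of_pair hgen (X.commU X.memC hw) h1 h2)
    have hmb : dd x b ∉ zpowers (x * x) := fun h =>
      hma (hUT (P.symm.mem_U_of_mem_U (X.central' b) (X.central' a) (hTU h)))
    refine X.two_step ?_ hT ha hma H
    by_contra hne
    obtain ⟨y, hy, hyY, hyc, -⟩ := exists_central_mod hP (N := W ⊔ zpowers x) hne
    have hya := X.mem_W_of_dd_mem_sup ha hTa hma (dd_mem_symm (hyc a))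
    have hyb := X.mem_W_of_dd_mem_sup hb hTb hmb (dd_mem_symm (hyc b))
    have finish : ∀ g ∈ centralizer (W : Set G), dd g a ∈ W → dd g b ∈ W → dd g a ∈ A ⊓ W → g ∈ W :=
      fun g hg h1 h2 h3 => by
      obtain ⟨w, hw, e1, e2⟩ := P.kill_of_mem_U h1 h2 h3
      exact hint g hg w hw (B.mem_of_pair hgen (X.commU hg hw) e1 e2)
    by_cases hin : dd y a ∈ A ⊓ W
    · exact hyY (mem_sup_left (finish y hy hya hyb hin))
    refine hyY (hback y (mem_sup_left (finish (x⁻¹ * y) (hCx y hy) ?_ ?_ ?_)))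
    · rw [X.adjust hya]; exact W.mul_mem hya (X.central' a)
    · rw [X.adjust hyb]; exact W.mul_mem hyb (X.central' b)
    · rw [X.adjust hya]
      exact mul_mem_of_two P.le_fix (by rw [P.card_fix, hU])
        ⟨hya, mem_cent.2 (invol_dd_fix B.elem (B.sq a ha) hya)⟩ hin
        ⟨X.central' a, mem_cent.2 (invol_dd_fix B.elem (B.sq a ha) (X.central' a))⟩ (fun h => hma (hUT h))
  · -- fixed points of order four
    have O : B.One a := ⟨ha, haW, hU⟩
    set R := B.elem.rng (le_refl W) a with hR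
    have hR2 : Nat.card R = 2 := by have : 4 * Nat.card R = Nat.card W := O.card_rng; omega
    have hm : dd x a ∉ R := fun h => by
      obtain ⟨w, hw, e⟩ := O.kill h
      exact X.not_fixed hw (O.mem_A (X.commU X.memC hw) (dd_eq_one.1 e))
    have key : ∀ g : G, dd g a ∈ W → dd g a ∈ R ∨ dd (x⁻¹ * g) a ∈ R := fun g hg => by
      by_cases h : dd g a ∈ R
      · exact Or.inl h
      · rw [X.adjust hg]
        exact Or.inr (mul_mem_of_two (N := R) O.rng_le (show Nat.card ↥(A ⊓ W) ≤ 2 * Nat.card R by omega) (O.mem_U hg) h (O.mem_U (X.central' a)) hm)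
    by_cases hRT : R ≤ zpowers (x * x)
    · have hTR : zpowers (x * x) ≤ R := le_of_card hRT (by rw [X.card_T0, hR2])
      have hTa : ∀ w ∈ W, dd a w ∈ zpowers (x * x) := fun w hw => hRT ((B.elem.mem_rng _).2 ⟨w, hw, rfl⟩)
      have hT : A ≤ X.transv := O.gen.trans (sup_le (fun u hu w hw => by
        rw [dd_eq_one.2 (B.elem.comm u hu.2 w hw)]; exact Subgroup.one_mem _) (zpowers_le.2 hTa))
      refine X.two_step ?_ hT ha (fun h => hm (hTR h)) H
      by_contra hne
      obtain ⟨y, hy, hyY, hyc, -⟩ := exists_central_mod hP (N := W ⊔ zpowers x) hne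
      have hya := X.mem_W_of_dd_mem_sup ha hTa (fun h => hm (hTR h)) (dd_mem_symm (hyc a))
      have finish : ∀ g ∈ centralizer (W : Set G), dd g a ∈ R → g ∈ W := fun g hg h3 => by
        obtain ⟨w, hw, e⟩ := O.kill h3
        exact hint g hg w hw (O.mem_A (X.commU hg hw) (dd_eq_one.1 e))
      rcases key y hya with h | h
      · exact hyY (mem_sup_left (finish y hy h))
      · exact hyY (hback y (mem_sup_left (finish _ (hCx y hy) h)))
    · -- the centralizer in the quotient is small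
      obtain ⟨t, ht, htT⟩ := SetLike.not_le_iff_exists.1 hRT
      have ht1 : t ≠ 1 := fun e => htT (e ▸ Subgroup.one_mem _)
      have htU := O.rng_le ht
      have hgenU : A ⊓ W ≤ zpowers (x * x) ⊔ zpowers t := by
        have h2 : 2 * Nat.card (zpowers (x * x)) ≤ Nat.card ↥(zpowers (x * x) ⊔ zpowers t) :=
          two_mul_card_le le_sup_left (mem_sup_right (mem_zpowers t)) htT
        exact le_of_card (sup_le (zpowers_le.2 X.sq_mem) (zpowers_le.2 htU)) (by have := X.card_T0; omega)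
      have hRt : R ≤ zpowers t := le_of_card (zpowers_le.2 ht)
        (by rw [card_zpowers_invol (B.elem.sq t htU.2) ht1, hR2])
      have hCa : ∀ g ∈ centralizer ({a} : Set G), g ∈ A := fun g hg => by
        refine O.mem_A (fun u hu => ?_) (mem_cent.1 hg).symm
        have htg : g * t = t * g := by
          obtain ⟨w, hw, rfl⟩ := (B.elem.mem_rng _).1 ht
          have hga : g * a * g⁻¹ = a := by rw [← mem_cent.1 hg, mul_inv_cancel_right]
          have h1 : g * dd a w * g⁻¹ ∈ R := (B.elem.mem_rng _).2 ⟨g * w * g⁻¹, B.elem.normal.conj_mem w hw g, by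
            calc dd a (g * w * g⁻¹) = dd (g * a * g⁻¹) (g * w * g⁻¹) := by rw [hga]
              _ = g * dd a w * g⁻¹ := by simp only [dd]; group⟩
          rcases mem_zpowers_invol (B.elem.sq _ htU.2) (hRt h1) with h | h
          · exact absurd (conj_eq_one_iff.1 h) ht1
          · exact mul_inv_eq_iff_eq_mul.1 h
        have h3 : zpowers (x * x) ⊔ zpowers t ≤ centralizer ({g} : Set G) :=
          sup_le (zpowers_le.2 (mem_cent.2 (X.sq_central g))) (zpowers_le.2 (mem_cent.2 htg))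
        exact mem_cent.1 (h3 (hgenU hu))
      set π := QuotientGroup.mk' W
      have hsub : centralizer ({π a} : Set (G ⧸ W)) ≤ A.map π ⊔ zpowers (π x) := by
        intro q hq
        obtain ⟨g, rfl⟩ := QuotientGroup.mk'_surjective W q
        have hg : dd g a ∈ W := mk_comm.1 (mem_cent.1 hq).symm
        have fin : ∀ g, dd g a ∈ R → π g ∈ A.map π := fun g h => by
          obtain ⟨w, hw, e⟩ := O.kill h
          exact ⟨w * g, hCa _ (mem_cent.2 (dd_eq_one.1 e).symm), mk_eq_mk.2 (by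
            rw [mul_inv_rev, mul_assoc]
            simpa [mul_assoc] using B.elem.normal.conj_mem _ (W.inv_mem hw) g⁻¹)⟩
        rcases key g hg with h | h
        · exact mem_sup_left (fin g h)
        · have h1 := Subgroup.mul_mem _ (mem_sup_right (mem_zpowers (π x)))
            (mem_sup_left (fin _ h) : π (x⁻¹ * g) ∈ A.map π ⊔ zpowers (π x))
          rwa [← map_mul, mul_inv_cancel_left] at h1
      have hcA : Nat.card ↥(A.map π) * 4 = 8 := by
        have := card_map_mul_inf A W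
        rw [hU, B.card8] at this
        exact this
      have hC : Nat.card ↥(centralizer ({π a} : Set (G ⧸ W))) ≤ 4 := by
        refine (Subgroup.card_le_of_le hsub).trans ((card_sup_two ?_ ?_).trans (by omega))
        · rintro _ ⟨b, hb, rfl⟩
          rw [(mk_comm (W := W)).2 (X.central' b), mul_inv_cancel_right]
          exact Subgroup.mem_map_of_mem π hb
        · rw [← map_mul, show π (x * x) = 1 from (QuotientGroup.eq_one_iff _).2 X.sqW]
          exact Subgroup.one_mem _
      rcases quot_two_gen hP (B.sq a ha ▸ W.one_mem) hC X.central X.sqW X.notMem H with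
        ⟨g, hg, hc⟩ | ⟨g₁, hg₁, g₂, hg₂, hc, h₀, hh₀, hh₀x⟩
      · exact four_one hP hg hc bot_le (fun _ _ _ => bot_le)
          (by rw [card_bot]; have := Subgroup.card_le_of_le (inf_le_right : H ⊓ W ≤ W); omega)
      · refine four_two hP hg₁ hg₂ hc (K := zpowers (x * x))
          (zpowers_le.2 ⟨X.sq_translate hh₀x ▸ H.mul_mem hh₀ hh₀, X.sqW⟩)
          (fun M _ hsq => zpowers_le.2 (X.sq_translate hh₀x ▸ hsq h₀ hh₀)) ?_
        have := Subgroup.card_le_of_le (inf_le_right : H ⊓ W ≤ W)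
        have := X.card_T0
        omega

end Extra

theorem Base.four_sixteen (B : Base A W) (hAW : ¬A ≤ centralizer (W : Set G))
    (hCW : centralizer (W : Set G) ≤ W) (h16 : Nat.card W = 16) (H : Subgroup G) : Four H := by
  have hP := B.isP
  haveI := B.elem.normal
  obtain ⟨a, ha, haW⟩ := SetLike.not_le_iff_exists.1 hAW
  replace haW : a ∉ W := fun h => haW (mem_centralizer_iff.2 fun w hw => B.elem.comm w hw a h)
  obtain ⟨z, -, hzW, hzc, hz2⟩ := exists_central_mod hP (N := W) (M := ⊤) (fun h => haW (h (mem_top a)))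
  set π := QuotientGroup.mk' W
  suffices h : ∃ a₁, a₁ * a₁ = 1 ∧ Nat.card ↥(centralizer ({π a₁} : Set (G ⧸ W))) ≤ 4 ∧
      Nat.card ↥(W ⊓ centralizer ({z} : Set G)) ≤ 4 by
    obtain ⟨a₁, ha₁, hC, hz⟩ := h
    refine four_faithful hP B.elem h16.le hCW H ?_
    rcases quot_two_gen hP (ha₁ ▸ W.one_mem) hC hzc hz2 hzW H with h | ⟨g₁, hg₁, g₂, hg₂, hc, h₀, hh₀, hh₀z⟩
    · exact Or.inl h
    · exact Or.inr ⟨g₁, hg₁, g₂, hg₂, hc, h₀, hh₀, by rwa [← B.elem.fix_congr hh₀z]⟩
  have hmk : ∀ {w g : G}, w ∈ W → g⁻¹ * (w * g) ∈ W := fun {w g} hw => by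
    simpa [mul_assoc] using B.elem.normal.conj_mem w hw g⁻¹
  rcases B.cases hAW with hU | hU
  · -- fixed points of order two
    obtain ⟨b, hb, -, P, hgen⟩ := B.exists_pair hU ha haW
    have hmem : ∀ {a b : G}, Pair W (A ⊓ W) a b → A ≤ (A ⊓ W) ⊔ zpowers a ⊔ zpowers b →
        ∀ g, dd g a ∈ W → dd g b ∈ W → ∃ c ∈ A, g⁻¹ * c ∈ W := fun {a b} P hgen g h1 h2 => by
      obtain ⟨w, hw, e1, e2⟩ := P.kill_sixteen h16 h1 h2
      exact ⟨w * g, B.mem_of_pair hgen (fun u hu => B.central_U hU _ hu) e1 e2, hmk hw⟩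
    obtain ⟨c, hc, hcz⟩ := hmem P hgen z (dd_mem_symm (hzc a)) (dd_mem_symm (hzc b))
    have hcW : c ∉ W := fun h => hzW (by
      have := W.mul_mem h (W.inv_mem hcz)
      rwa [show c * (z⁻¹ * c)⁻¹ = z by group] at this)
    obtain ⟨d, hd, -, P', hgen'⟩ := B.exists_pair hU hc hcW
    refine ⟨d, B.sq d hd, ?_, by rw [B.elem.fix_congr hcz, P'.card_fix]⟩
    have hsub : centralizer ({π d} : Set (G ⧸ W)) ≤ A.map π := by
      intro q hq
      obtain ⟨g, rfl⟩ := QuotientGroup.mk'_surjective W q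
      have h1 : dd g c ∈ W := by
        refine mk_comm.1 ?_
        rw [← mk_eq_mk.2 hcz]
        exact mk_comm.2 (hzc g)
      obtain ⟨c', hc', hgc⟩ := hmem P' hgen' g h1 (mk_comm.1 (mem_cent.1 hq).symm)
      exact ⟨c', hc', (mk_eq_mk.2 hgc).symm⟩
    have h2 : Nat.card ↥(A.map π) * Nat.card ↥(A ⊓ W) = Nat.card A := card_map_mul_inf A W
    rw [hU, B.card8] at h2
    have := Subgroup.card_le_of_le hsub
    omega
  · -- fixed points of order four
    have O : B.One a := ⟨ha, haW, hU⟩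
    have hR : A ⊓ W ≤ B.elem.rng (le_refl W) a := le_of_card O.rng_le (by have := O.card_rng; omega)
    refine ⟨a, B.sq a ha, ?_, ?_⟩
    · have hsub : centralizer ({π a} : Set (G ⧸ W)) ≤ (centralizer ({a} : Set G)).map π := by
        intro q hq
        obtain ⟨g, rfl⟩ := QuotientGroup.mk'_surjective W q
        obtain ⟨w, hw, e⟩ := O.kill (hR (O.mem_U (mk_comm.1 (mem_cent.1 hq).symm)))
        exact ⟨w * g, mem_cent.2 (dd_eq_one.1 e).symm, (mk_eq_mk.2 (hmk hw)).symm⟩
      have h2 : Nat.card ↥((centralizer ({a} : Set G)).map π) * Nat.card ↥(centralizer ({a} : Set G) ⊓ W) =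
          Nat.card ↥(centralizer ({a} : Set G)) := card_map_mul_inf _ W
      rw [inf_comm (centralizer ({a} : Set G)) W, O.fix, hU] at h2
      have := O.card_cent
      have := Subgroup.card_le_of_le hsub
      omega
    · obtain ⟨w, hw, e⟩ := O.kill (hR (O.mem_U (dd_mem_symm (hzc a))))
      rw [B.elem.fix_congr (hmk (g := z) hw)]
      refine O.fix_small (mem_cent.2 (dd_eq_one.1 e).symm) fun h => hzW ?_
      simpa using W.mul_mem (W.inv_mem hw) h

theorem Base.four (B : Base A W) (H : Subgroup G) : Four H := by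
  haveI := B.elem.normal
  by_cases hAW : A ≤ centralizer (W : Set G)
  · have hWA : W ≤ A := fun w hw => B.cent w fun a ha => mem_centralizer_iff.1 (hAW ha) w hw
    have h8 : Nat.card W = 8 := le_antisymm (B.card8 ▸ Subgroup.card_le_of_le hWA) B.big
    have hAW' : A ≤ W := le_of_card hWA (by rw [h8, B.card8])
    exact four_eight B.isP B.elem h8 (fun g hg => by
      exact hAW' (B.cent g fun a ha => (mem_centralizer_iff.1 hg a (hAW' ha)).symm)) H
  by_cases hCW : centralizer (W : Set G) ≤ W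
  · obtain ⟨a, ha, haW⟩ := SetLike.not_le_iff_exists.1 hAW
    replace haW : a ∉ W := fun h => haW (mem_centralizer_iff.2 fun w hw => B.elem.comm w hw a h)
    have h16 : Nat.card W ≤ 16 := by
      rcases B.cases hAW with hU | hU
      · obtain ⟨b, -, -, P, -⟩ := B.exists_pair hU ha haW
        exact P.card_le
      · exact (⟨ha, haW, hU⟩ : B.One a).card_le
    rcases pow_cases B.isP W with h | h | h | h | h
    all_goals try (have := B.big; omega)
    · exact four_eight B.isP B.elem h hCW H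
    · exact B.four_sixteen hAW hCW (by omega) H
  · obtain ⟨x, hx, hxW, hxc, hx2⟩ := exists_central_mod B.isP hCW
    exact Extra.four ⟨B, hAW, hx, hxW, hxc, hx2⟩ H

theorem four_of_self_central_eight (hP : IsPGroup 2 G) (A : Subgroup G) (hc : ∀ a ∈ A, ∀ b ∈ A, a * b = b * a)
    (hs : ∀ a ∈ A, a * a = 1) (h8 : Nat.card A = 8) (hC : ∀ g, (∀ a ∈ A, g * a = a * g) → g ∈ A)
    (H : Subgroup G) : Four H := by
  by_cases hno : ∀ V : Subgroup G, V.Normal → IsMulCommutative V → (∀ v ∈ V, v ^ 2 = 1) → Nat.card V ≤ 4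
  · exact four_of_no_normal_eight hP hno H
  push_neg at hno
  obtain ⟨V, hVn, hVc, hVe, hV⟩ := hno
  have eV : Elem V := ⟨hVn, fun a ha b hb => congrArg Subtype.val (hVc.is_comm.comm (⟨a, ha⟩ : V) ⟨b, hb⟩),
    fun v hv => by rw [← pow_two]; exact hVe v hv⟩
  obtain ⟨W, hVW, eW, hmax⟩ := Finite.exists_le_maximal (p := fun W : Subgroup G => Elem W) eV
  have hbig : 8 ≤ Nat.card W := by
    have := Subgroup.card_le_of_le hVW
    rcases pow_cases hP W with h | h | h | h | h <;> omega
  exact Base.four ⟨hP, hc, hs, h8, hC, eW, hbig, fun V' hV' hle => hmax hV' hle⟩ H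

end CfsgLib.PGroup.SelfEight
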