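import Mathlib
import Cfsg.Prelude
import Cfsg.Agent.Lib.PGroup.SelfCentralEight.Main

/-!
Sectional rank with a self-centralizing elementary abelian subgroup of order eight.
-/

set_option autoImplicit false

namespace CfsgLib.PGroup.SelfEight

open Subgroup CfsgLib.PGroup.MacWilliams

theorem sectional_of_self_central {G : Type*} [Group G] [Finite G] (hP : IsPGroup 2 G) (A : Subgroup G)
    (hc : ∀ a ∈ A, ∀ b ∈ A, a * b = b * a) (hs : ∀ a ∈ A, a * a = 1) (h8 : Nat.card A = 8)
    (hC : centralizer (A : Set G) = A) : Cfsg.SectionalPRankLE 2 4 G :=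
  sectional_of_four (four_of_self_central_eight hP A hc hs h8 fun g hg =>
    hC.le (mem_centralizer_iff.2 fun a ha => (hg a ha).symm))

end CfsgLib.PGroup.SelfEight
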