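import Mathlib
import Cfsg.Prelude
import Cfsg.Agent.Lib.PGroup.SelfCentralEight.Sectional

/-!
A self-centralizing elementary abelian subgroup inside a self-centralizing extraspecial group of order 32.
-/

set_option autoImplicit false

namespace CfsgLib.PGroup.SelfEight

open Subgroup
open scoped Pointwise

universe u

variable {G : Type u} [Group G] [Finite G]

/-- An extraspecial group of order 32 with an elementary abelian subgroup of order eight. -/
structure Extra32 (Q A : Subgroup G) (z : G) : Prop where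
  isP : IsPGroup 2 G
  card32 : Nat.card Q = 32
  le : A ≤ Q
  card8 : Nat.card A = 8
  zA : z ∈ A
  z2 : z * z = 1
  z1 : z ≠ 1
  comm : ∀ a ∈ A, ∀ b ∈ A, a * b = b * a
  sqA : ∀ a ∈ A, a * a = 1
  dd_mem : ∀ u ∈ Q, ∀ v ∈ Q, dd u v ∈ zpowers z
  sq_mem : ∀ u ∈ Q, u * u ∈ zpowers z
  center : ∀ g ∈ Q, (∀ q ∈ Q, g * q = q * g) → g ∈ zpowers z
  zcomm : ∀ q ∈ Q, z * q = q * z
  self : ∀ g ∈ Q, (∀ a ∈ A, g * a = a * g) → g ∈ A
  cent : centralizer (Q : Set G) ≤ Q

namespace Extra32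

variable {Q A : Subgroup G} {z : G}

theorem Z_comm (E : Extra32 Q A z) {t q : G} (ht : t ∈ zpowers z) (hq : q ∈ Q) : t * q = q * t := by
  rcases mem_zpowers_invol E.z2 ht with rfl | rfl
  · rw [one_mul, mul_one]
  · exact E.zcomm q hq

theorem conj_mem (E : Extra32 Q A z) {q : G} (hq : q ∈ Q) : ∀ a ∈ A, q * a * q⁻¹ ∈ A := fun a ha => by
  rw [conj_eq]
  exact A.mul_mem ((zpowers_le.2 E.zA : zpowers z ≤ A) (E.dd_mem q hq a (E.le ha))) ha

theorem sq_mem_A (E : Extra32 Q A z) {q : G} (hq : q ∈ Q) : q * q ∈ A :=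
  (zpowers_le.2 E.zA : zpowers z ≤ A) (E.sq_mem q hq)

/-- An element of `A` displacing `y` and fixing `u`. -/
theorem exists_sel (E : Extra32 Q A z) {y u : G} (hy : y ∈ Q) (hu : u ∈ Q)
    (hgen : Q ≤ A ⊔ zpowers y ⊔ zpowers u) : ∃ a ∈ A, dd a y = z ∧ dd a u = 1 := by
  have hc : Nat.card A ≤ 2 * Nat.card ↥(A ⊓ centralizer ({u} : Set G)) := by
    by_cases h : ∃ a₀ ∈ A, dd a₀ u = z
    · obtain ⟨a₀, ha₀, e₀⟩ := h
      refine card_le_two_mul a₀ fun a ha => ?_
      rcases mem_zpowers_invol E.z2 (E.dd_mem a (E.le ha) u hu) with e | e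
      · exact Or.inl ⟨ha, mem_cent.2 (dd_eq_one.1 e).symm⟩
      · exact Or.inr ⟨A.mul_mem (A.inv_mem ha₀) ha, mem_cent.2 (sep_of_dd (e₀.trans e.symm)).symm⟩
    · push_neg at h
      exact card_le_two_mul 1 fun a ha => Or.inl ⟨ha, mem_cent.2 (dd_eq_one.1
        ((mem_zpowers_invol E.z2 (E.dd_mem a (E.le ha) u hu)).resolve_right (h a ha))).symm⟩
  by_contra! h
  have hle : A ⊓ centralizer ({u} : Set G) ≤ zpowers z := fun a ha => E.center a (E.le ha.1) fun q hq => by
    have h2 : A ⊔ zpowers y ⊔ zpowers u ≤ centralizer ({a} : Set G) := by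
      refine sup_le (sup_le (fun b hb => mem_cent.2 (E.comm a ha.1 b hb)) (zpowers_le.2 (mem_cent.2 ?_)))
        (zpowers_le.2 (mem_cent.2 (mem_cent.1 ha.2).symm))
      refine dd_eq_one.1 ((mem_zpowers_invol E.z2 (E.dd_mem a (E.le ha.1) y hy)).resolve_right fun e => ?_)
      exact h a ha.1 e (dd_eq_one.2 (mem_cent.1 ha.2).symm)
    exact mem_cent.1 (h2 (hgen hq))
  have := Subgroup.card_le_of_le hle
  rw [card_zpowers_invol E.z2 E.z1] at this
  have := E.card8
  omega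

theorem fixed_mem (E : Extra32 Q A z) {c : G} (hcA : ∀ a ∈ A, c * a = a * c) (hcQ : c ∉ Q)
    (hn : ∀ q ∈ Q, c * q * c⁻¹ ∈ Q) {y : G} (hy : y ∈ Q) (hcy : dd c y ∈ zpowers z) : y ∈ A := by
  by_contra hyA
  set M := A ⊔ zpowers y
  have hM : Nat.card M ≤ 16 := by
    have h : Nat.card M ≤ 2 * Nat.card A := card_sup_two (E.conj_mem hy) (E.sq_mem_A hy)
    have := E.card8; omega
  obtain ⟨u, hu, huM⟩ := SetLike.not_le_iff_exists.1 (show ¬Q ≤ M from fun h => by
    have := Subgroup.card_le_of_le h; have := E.card32; omega)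
  have hgen : Q ≤ M ⊔ zpowers u := by
    have h1 : 2 * Nat.card A ≤ Nat.card M := two_mul_card_le le_sup_left (mem_sup_right (mem_zpowers y)) hyA
    have h2 : 2 * Nat.card M ≤ Nat.card ↥(M ⊔ zpowers u) :=
      two_mul_card_le le_sup_left (mem_sup_right (mem_zpowers u)) huM
    exact le_of_card (sup_le (sup_le E.le (zpowers_le.2 hy)) (zpowers_le.2 hu))
      (by have := E.card8; have := E.card32; omega)
  have hcZ : ∀ t ∈ zpowers z, c * t * c⁻¹ = t := fun t ht => by
    rw [hcA t ((zpowers_le.2 E.zA : zpowers z ≤ A) ht), mul_inv_cancel_right]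
  set m := dd c u with hm
  have hmQ : m ∈ Q := Q.mul_mem (hn u hu) (Q.inv_mem hu)
  have hmv : ∀ v ∈ Q, dd c v ∈ zpowers z → m * v = v * m := by
    intro v hv hcv
    set e := dd c v
    set f := dd u v
    have hf := E.dd_mem u hu v hv
    have h1 : m * u * (e * v) * (m * u)⁻¹ * (e * v)⁻¹ = f := by
      rw [hm, ← conj_eq, ← conj_eq,
        show c * u * c⁻¹ * (c * v * c⁻¹) * (c * u * c⁻¹)⁻¹ * (c * v * c⁻¹)⁻¹ = c * f * c⁻¹ by
          simp only [f, dd]; group]
      exact hcZ f hf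
    have h2 : m * u * (e * v) * (m * u)⁻¹ = e * f * (m * v * m⁻¹) := by
      calc m * u * (e * v) * (m * u)⁻¹ = m * (u * e) * (v * u⁻¹) * m⁻¹ := by group
        _ = m * (e * u) * (v * u⁻¹) * m⁻¹ := by rw [E.Z_comm hcv hu]
        _ = m * e * (f * v) * m⁻¹ := by simp only [f, dd]; group
        _ = e * m * (f * v) * m⁻¹ := by rw [E.Z_comm hcv hmQ]
        _ = e * (m * f) * v * m⁻¹ := by group
        _ = e * (f * m) * v * m⁻¹ := by rw [E.Z_comm hf hmQ]
        _ = e * f * (m * v * m⁻¹) := by group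
    rw [h2, mul_inv_eq_iff_eq_mul, ← mul_assoc f, ← E.Z_comm hcv (show f ∈ Q from E.le
      ((zpowers_le.2 E.zA : zpowers z ≤ A) hf))] at h1
    exact mul_inv_eq_iff_eq_mul.1 (mul_left_cancel h1)
  have hmA : m ∈ A := E.self m hmQ fun a ha => hmv a (E.le ha) (by
    rw [dd_eq_one.2 (hcA a ha)]; exact one_mem _)
  have hmu : m * u = u * m := by
    have h1 : m * u * (m * u) = u * u := by
      rw [hm, ← conj_eq, show c * u * c⁻¹ * (c * u * c⁻¹) = c * (u * u) * c⁻¹ by group, hcZ _ (E.sq_mem u hu)]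
    have h2 : m * u * m = u := mul_right_cancel (b := u) (by rw [← h1]; group)
    calc m * u = m * u * (m * m) := by rw [E.sqA m hmA, mul_one]
      _ = m * u * m * m := by group
      _ = u * m := by rw [h2]
  have hmy : m * y = y * m := hmv y hy hcy
  have hmZ : m ∈ zpowers z := E.center m hmQ fun q hq => by
    have h2 : M ⊔ zpowers u ≤ centralizer ({m} : Set G) := sup_le (sup_le
      (fun b hb => mem_cent.2 (E.comm m hmA b hb)) (zpowers_le.2 (mem_cent.2 hmy))) (zpowers_le.2 (mem_cent.2 hmu))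
    exact mem_cent.1 (h2 (hgen hq))
  obtain ⟨a₁, ha₁, e11, e12⟩ := E.exists_sel hy hu hgen
  obtain ⟨a₂, ha₂, e22, e21⟩ := E.exists_sel hu hy (by
    rwa [sup_assoc, sup_comm (zpowers u) (zpowers y), ← sup_assoc])
  have hadd : ∀ a ∈ A, ∀ b ∈ A, ∀ v ∈ Q, dd (a * b) v = dd b v * dd a v := fun a ha b hb v hv => by
    rw [dd_mul_left, dd_eq_one.2 (E.Z_comm (E.dd_mem b (E.le hb) v hv) (E.le ha)).symm, one_mul]
  obtain ⟨a, ha, hay, hau⟩ : ∃ a ∈ A, dd a y = dd c y ∧ dd a u = m := by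
    rcases mem_zpowers_invol E.z2 hcy with h1 | h1 <;> rcases mem_zpowers_invol E.z2 hmZ with h2 | h2 <;>
      rw [h1, h2]
    · exact ⟨1, A.one_mem, by simp [dd], by simp [dd]⟩
    · exact ⟨a₂, ha₂, e21, e22⟩
    · exact ⟨a₁, ha₁, e11, e12⟩
    · refine ⟨a₁ * a₂, A.mul_mem ha₁ ha₂, ?_, ?_⟩
      · rw [hadd a₁ ha₁ a₂ ha₂ y hy, e21, e11, one_mul]
      · rw [hadd a₁ ha₁ a₂ ha₂ u hu, e22, e12, mul_one]
  refine hcQ ?_
  have hk : a⁻¹ * c ∈ centralizer (Q : Set G) := by
    have h2 : M ⊔ zpowers u ≤ centralizer ({a⁻¹ * c} : Set G) := by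
      refine sup_le (sup_le (fun b hb => mem_cent.2 ?_) (zpowers_le.2 (mem_cent.2 (sep_of_dd hay))))
        (zpowers_le.2 (mem_cent.2 (sep_of_dd hau)))
      calc a⁻¹ * c * b = a⁻¹ * (c * b) := by group
        _ = a⁻¹ * (b * c) := by rw [hcA b hb]
        _ = a⁻¹ * b * c := by group
        _ = b * a⁻¹ * c := by rw [E.comm _ (A.inv_mem ha) b hb]
        _ = b * (a⁻¹ * c) := by group
    exact mem_centralizer_iff.2 fun q hq => (mem_cent.1 (h2 (hgen hq))).symm
  have := Q.mul_mem (E.le ha) (E.cent hk)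
  rwa [mul_inv_cancel_left] at this

theorem exists_normalizing (E : Extra32 Q A z) (h : ¬centralizer (A : Set G) ≤ A) :
    ∃ c, (∀ a ∈ A, c * a = a * c) ∧ c ∉ Q ∧ ∀ q ∈ Q, c * q * c⁻¹ ∈ Q := by
  haveI : Fact (Nat.Prime 2) := ⟨Nat.prime_two⟩
  obtain ⟨c₀, hc₀, hc₀A⟩ := SetLike.not_le_iff_exists.1 h
  set C := centralizer (A : Set G)
  have hc₀Q : c₀ ∉ Q := fun h => hc₀A (E.self c₀ h fun a ha => (mem_centralizer_iff.1 hc₀ a ha).symm)
  have hQC : Q ≤ normalizer (C : Subgroup G) := fun q hq => by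
    refine mem_normalizer_iff.2 fun k => ?_
    have hq' : ∀ {q : G}, q ∈ Q → ∀ {k : G}, k ∈ C → q * k * q⁻¹ ∈ C := fun {q} hq {k} hk => by
      refine mem_centralizer_iff.2 fun a ha => ?_
      have h1 := mem_centralizer_iff.1 hk _ (E.conj_mem (Q.inv_mem hq) a ha)
      rw [inv_inv] at h1
      calc a * (q * k * q⁻¹) = q * (q⁻¹ * a * q * k) * q⁻¹ := by group
        _ = q * (k * (q⁻¹ * a * q)) * q⁻¹ := by rw [h1]
        _ = q * k * q⁻¹ * a := by group
    refine ⟨fun hk => hq' hq hk, fun hk => ?_⟩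
    have h1 := hq' (Q.inv_mem hq) hk
    rwa [show q⁻¹ * (q * k * q⁻¹) * q⁻¹⁻¹ = k by group] at h1
  set X := Q ⊔ C
  haveI := (E.isP.to_subgroup X).isNilpotent
  have hlt : Q.subgroupOf X < ⊤ := lt_top_iff_ne_top.2 fun e =>
    hc₀Q (subgroupOf_eq_top.1 e (mem_sup_right hc₀))
  obtain ⟨g, hg, hgQ⟩ := SetLike.exists_of_lt (normalizerCondition_of_isNilpotent (Q.subgroupOf X) hlt)
  have hgX : (g : G) ∈ ((Q : Set G) * (C : Set G)) := by
    rw [← Subgroup.coe_mul_of_left_le_normalizer_right Q C hQC]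
    exact g.2
  obtain ⟨q, hq, c, hc, hqc⟩ := Set.mem_mul.1 hgX
  refine ⟨c, fun a ha => (mem_centralizer_iff.1 hc a ha).symm, fun hcQ => hgQ ?_, fun v hv => ?_⟩
  · exact show (g : G) ∈ Q from hqc ▸ Q.mul_mem hq hcQ
  · have h1 : (g : G) * v * (g : G)⁻¹ ∈ Q := (mem_normalizer_iff.1 hg ⟨v, mem_sup_left hv⟩).1 hv
    rw [← hqc] at h1
    have h2 := Q.mul_mem (Q.mul_mem (Q.inv_mem hq) h1) hq
    rwa [show q⁻¹ * (q * c * v * (q * c)⁻¹) * q = c * v * c⁻¹ by group] at h2

theorem self_central_or (E : Extra32 Q A z) {A' : Subgroup G} (E' : Extra32 Q A' z)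
    (hAA' : A ⊓ A' ≤ zpowers z) :
    centralizer (A : Set G) = A ∨ centralizer (A' : Set G) = A' := by
  by_contra! h
  have hle : ∀ {B : Subgroup G}, Extra32 Q B z → centralizer (B : Set G) ≠ B → ¬centralizer (B : Set G) ≤ B :=
    fun {B} F hne hle => hne (le_antisymm hle fun b hb => mem_centralizer_iff.2 fun a ha => F.comm a ha b hb)
  obtain ⟨c, hcA, hcQ, hcn⟩ := E.exists_normalizing (hle E h.1)
  obtain ⟨d, hdA, hdQ, hdn⟩ := E'.exists_normalizing (hle E' h.2)
  set N := normalizer (Q : Set G)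
  have hmem : ∀ {g : G}, (∀ q ∈ Q, g * q * g⁻¹ ∈ Q) → g ∈ N := fun {g} hg => by
    refine mem_normalizer_iff.2 fun k => ⟨fun hk => hg k hk, fun hk => ?_⟩
    have hmap : Q.map (MulAut.conj g).toMonoidHom = Q := eq_of_le_of_card_ge
      (by rintro _ ⟨q, hq, rfl⟩; exact hg q hq)
      (by rw [card_map_of_injective (MulAut.conj g).injective])
    obtain ⟨q, hq, e⟩ := hmap.ge hk
    exact (MulAut.conj g).injective (show MulAut.conj g q = MulAut.conj g k from e) ▸ hq
  have hQN : Q ≤ N := Q.le_normalizer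
  have hzN : ∀ g ∈ N, g * z = z * g := fun g hg => by
    have h1 : g * z * g⁻¹ ∈ zpowers z := by
      refine E.center _ ((mem_normalizer_iff.1 hg z).1 (E.le E.zA)) fun q hq => ?_
      have hq' : g⁻¹ * q * g ∈ Q := (mem_normalizer_iff.1 hg _).2 (by
        rwa [show g * (g⁻¹ * q * g) * g⁻¹ = q by group])
      calc g * z * g⁻¹ * q = g * (z * (g⁻¹ * q * g)) * g⁻¹ := by group
        _ = g * (g⁻¹ * q * g * z) * g⁻¹ := by rw [E.zcomm _ hq']
        _ = q * (g * z * g⁻¹) := by group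
    rcases mem_zpowers_invol E.z2 h1 with h1 | h1
    · exact absurd (conj_eq_one_iff.1 h1) E.z1
    · exact mul_inv_eq_iff_eq_mul.1 h1
  let Z' : Subgroup N := zpowers ⟨z, hQN (E.le E.zA)⟩
  haveI : Z'.Normal := central_zpowers_normal fun g => Subtype.ext (hzN g g.2)
  haveI : (Q.subgroupOf N).Normal := normal_in_normalizer
  have hne : ¬Q.subgroupOf N ≤ Z' := fun hle => by
    have h1 := Subgroup.card_le_of_le hle
    rw [Nat.card_congr (subgroupOfEquivOfLe hQN).toEquiv, E.card32,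
      card_zpowers_invol (z := (⟨z, hQN (E.le E.zA)⟩ : N)) (Subtype.ext E.z2)
        (fun e => E.z1 (congrArg Subtype.val e))] at h1
    omega
  obtain ⟨y, hy, hyZ, hys, -⟩ := exists_central_mod (E.isP.to_subgroup N) hne
  have hval : ∀ t : N, t ∈ Z' → (t : G) ∈ zpowers z := fun t ht => by
    rcases mem_zpowers_invol (z := (⟨z, hQN (E.le E.zA)⟩ : N)) (Subtype.ext E.z2) ht with rfl | rfl
    · exact one_mem _
    · exact mem_zpowers z
  have h1 := E.fixed_mem hcA hcQ hcn hy (hval _ (hys ⟨c, hmem hcn⟩))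
  have h2 := E'.fixed_mem hdA hdQ hdn hy (hval _ (hys ⟨d, hmem hdn⟩))
  rcases mem_zpowers_invol E.z2 (hAA' ⟨h1, h2⟩) with e | e
  · exact hyZ (by rw [show y = 1 from Subtype.ext e]; exact one_mem _)
  · exact hyZ (by rw [show y = ⟨z, hQN (E.le E.zA)⟩ from Subtype.ext e]; exact mem_zpowers _)

end Extra32

/-! ### The central product of two quaternion groups -/

/-- The pair of two quaternion groups. -/
abbrev QQ : Type := QuaternionGroup 2 × QuaternionGroup 2

/-- The image in the four-group. -/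
def qbits : QuaternionGroup 2 → ZMod 2 × ZMod 2
  | .a k => (((k : ZMod 4).val : ZMod 2), 0)
  | .xa k => (((k : ZMod 4).val : ZMod 2), 1)

/-- The central involution of a quaternion group. -/
def qz : QuaternionGroup 2 := .a 2

theorem qbits_mul : ∀ g h : QuaternionGroup 2, qbits (g * h) = qbits g + qbits h := by decide +kernel
theorem qbits_inv : ∀ g : QuaternionGroup 2, qbits g⁻¹ = qbits g := by decide +kernel
theorem q_sq : ∀ g : QuaternionGroup 2, g * g = 1 ∨ g * g = qz := by decide +kernel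
theorem q_dd : ∀ g h : QuaternionGroup 2, g * h * g⁻¹ * h⁻¹ = 1 ∨ g * h * g⁻¹ * h⁻¹ = qz := by decide +kernel
theorem q_center : ∀ g : QuaternionGroup 2, (∀ h, g * h = h * g) → g = 1 ∨ g = qz := by decide +kernel

/-- The graph of the identity on the four-groups. -/
def graphOne : Subgroup QQ where
  carrier := {p | qbits p.2 = qbits p.1}
  one_mem' := rfl
  mul_mem' := fun {p q} hp hq => by
    show qbits (p.2 * q.2) = qbits (p.1 * q.1)
    rw [qbits_mul, qbits_mul, hp, hq]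
  inv_mem' := fun {p} hp => by
    show qbits p.2⁻¹ = qbits p.1⁻¹
    rw [qbits_inv, qbits_inv, hp]

/-- The graph of a rotation of the four-groups. -/
def graphTwo : Subgroup QQ where
  carrier := {p | qbits p.2 = ((qbits p.1).2, (qbits p.1).1 + (qbits p.1).2)}
  one_mem' := rfl
  mul_mem' := fun {p q} hp hq => by
    show qbits (p.2 * q.2) =
      ((qbits (p.1 * q.1)).2, (qbits (p.1 * q.1)).1 + (qbits (p.1 * q.1)).2)
    rw [qbits_mul, qbits_mul, hp, hq]
    exact Prod.ext rfl (by simp only [Prod.fst_add, Prod.snd_add]; abel)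
  inv_mem' := fun {p} hp => by
    show qbits p.2⁻¹ = ((qbits p.1⁻¹).2, (qbits p.1⁻¹).1 + (qbits p.1⁻¹).2)
    rw [qbits_inv, qbits_inv, hp]

instance : DecidablePred (· ∈ graphOne) := fun p => inferInstanceAs (Decidable (qbits p.2 = qbits p.1))
instance : DecidablePred (· ∈ graphTwo) := fun p =>
  inferInstanceAs (Decidable (qbits p.2 = ((qbits p.1).2, (qbits p.1).1 + (qbits p.1).2)))

/-- The kernel of the central product. -/
def triv (p : QQ) : Prop := p = 1 ∨ p = (qz, qz)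

instance : DecidablePred triv := fun p => inferInstanceAs (Decidable (p = 1 ∨ p = (qz, qz)))

theorem graph_card : Nat.card graphOne = 16 ∧ Nat.card graphTwo = 16 := by
  rw [Nat.card_eq_fintype_card, Nat.card_eq_fintype_card]
  decide +kernel

theorem graph_abelian : (∀ p ∈ graphOne, triv (p * p) ∧ ∀ q ∈ graphOne, triv (p * q * p⁻¹ * q⁻¹)) ∧
    ∀ p ∈ graphTwo, triv (p * p) ∧ ∀ q ∈ graphTwo, triv (p * q * p⁻¹ * q⁻¹) := by decide +kernel

theorem graph_self : (∀ x : QQ, (∀ p ∈ graphOne, triv (x * p * x⁻¹ * p⁻¹)) → x ∈ graphOne) ∧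
    ∀ x : QQ, (∀ p ∈ graphTwo, triv (x * p * x⁻¹ * p⁻¹)) → x ∈ graphTwo := by decide +kernel

theorem graph_inf : ∀ x : QQ, x ∈ graphOne → x ∈ graphTwo → (x.1 = 1 ∨ x.1 = qz) ∧ (x.2 = 1 ∨ x.2 = qz) := by
  decide +kernel

theorem sectional_of_quaternion {Q Q₁ Q₂ : Subgroup G} (hP : IsPGroup 2 G) (e₁ : Q₁ ≃* QuaternionGroup 2)
    (e₂ : Q₂ ≃* QuaternionGroup 2) (hcomm : ∀ a ∈ Q₁, ∀ b ∈ Q₂, a * b = b * a) (hQ : Q₁ ⊔ Q₂ = Q)
    (hQ32 : Nat.card Q = 32) (hC : centralizer (Q : Set G) ≤ Q) : Cfsg.SectionalPRankLE 2 4 G := by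
  let f₁ := Q₁.subtype.comp e₁.symm.toMonoidHom
  let f₂ := Q₂.subtype.comp e₂.symm.toMonoidHom
  let Φ : QQ →* G := MonoidHom.noncommCoprod f₁ f₂ fun g h => hcomm _ (e₁.symm g).2 _ (e₂.symm h).2
  have hΦ : ∀ g h, Φ (g, h) = f₁ g * f₂ h := fun g h => rfl
  have hrange : Φ.range = Q := by
    refine le_antisymm ?_ (hQ ▸ sup_le ?_ ?_)
    · rintro _ ⟨⟨g, h⟩, rfl⟩
      rw [hΦ, ← hQ]
      exact Subgroup.mul_mem _ (mem_sup_left (e₁.symm g).2) (mem_sup_right (e₂.symm h).2)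
    · intro a ha
      exact ⟨(e₁ ⟨a, ha⟩, 1), by rw [hΦ]; simp [f₁, f₂]⟩
    · intro a ha
      exact ⟨(1, e₂ ⟨a, ha⟩), by rw [hΦ]; simp [f₁, f₂]⟩
  have hf₁ : Function.Injective f₁ := Q₁.subtype_injective.comp e₁.symm.injective
  have hf₂ : Function.Injective f₂ := Q₂.subtype_injective.comp e₂.symm.injective
  have hker : ∀ p, Φ p = 1 ↔ triv p := by
    have h1 : Nat.card Φ.ker = 2 := by
      have h := Φ.ker.card_mul_index
      rw [index_ker, hrange, hQ32, Nat.card_prod, show Nat.card (QuaternionGroup 2) = 8 by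
        rw [Nat.card_eq_fintype_card]; decide +kernel] at h
      omega
    have h2 : ∀ p, Φ p = 1 → p = 1 ∨ ((p.1 = qz) ∧ p.2 = qz) := by
      rintro ⟨g, h⟩ e
      rw [hΦ] at e
      have hg : g = 1 ∨ g = qz := by
        refine q_center g fun g' => hf₁ ?_
        have e' : f₁ g = (f₂ h)⁻¹ := eq_inv_of_mul_eq_one_left e
        have hc : f₂ h * f₁ g' = f₁ g' * f₂ h := (hcomm _ (e₁.symm g').2 _ (e₂.symm h).2).symm
        rw [map_mul, map_mul, e', eq_comm, eq_inv_mul_iff_mul_eq, ← mul_assoc, hc, mul_inv_cancel_right]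
      have hh : h = 1 ∨ h = qz := by
        refine q_center h fun h' => hf₂ ?_
        have e' : f₂ h = (f₁ g)⁻¹ := eq_inv_of_mul_eq_one_right e
        have hc : f₁ g * f₂ h' = f₂ h' * f₁ g := hcomm _ (e₁.symm g).2 _ (e₂.symm h').2
        rw [map_mul, map_mul, e', eq_comm, eq_inv_mul_iff_mul_eq, ← mul_assoc, hc, mul_inv_cancel_right]
      rcases hg with rfl | rfl <;> rcases hh with rfl | rfl
      · exact Or.inl rfl
      · rw [map_one, one_mul] at e
        exact absurd (hf₂ (e.trans (map_one f₂).symm)) (by decide)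
      · rw [map_one, mul_one] at e
        exact absurd (hf₁ (e.trans (map_one f₁).symm)) (by decide)
      · exact Or.inr ⟨rfl, rfl⟩
    intro p
    constructor
    · intro e
      rcases h2 p e with rfl | ⟨e1, e2⟩
      · exact Or.inl rfl
      · exact Or.inr (Prod.ext e1 e2)
    · rintro (rfl | rfl)
      · exact map_one Φ
      · by_contra hne
        have : Φ.ker = ⊥ := (Subgroup.eq_bot_iff_forall _).2 fun q hq => (h2 q hq).resolve_right fun h =>
          hne (by rw [show ((qz, qz) : QQ) = q from Prod.ext h.1.symm h.2.symm]; exact hq)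
        rw [this, card_bot] at h1
        omega
  set z := Φ (qz, 1) with hz
  have hzz : Φ (1, qz) = z := by
    have h1 : Φ ((qz, qz) : QQ) = 1 := (hker _).2 (Or.inr rfl)
    rw [show ((qz, qz) : QQ) = (qz, 1) * (1, qz) from rfl, map_mul] at h1
    have h2 : z * z = 1 := by
      rw [hz, ← map_mul, show ((qz, 1) : QQ) * (qz, 1) = 1 by decide, map_one]
    exact mul_left_cancel (h1.trans h2.symm)
  have hZ : ∀ p : QQ, (p.1 = 1 ∨ p.1 = qz) → (p.2 = 1 ∨ p.2 = qz) → Φ p ∈ zpowers z := by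
    rintro ⟨g, h⟩ hg hh
    rw [show ((g, h) : QQ) = (g, 1) * (1, h) by simp, map_mul]
    refine mul_mem ?_ ?_
    · rcases hg with rfl | rfl
      · simp [Prod.mk_one_one]
      · exact mem_zpowers _
    · rcases hh with rfl | rfl
      · simp [Prod.mk_one_one]
      · exact hzz ▸ mem_zpowers _
  have htriv : ∀ p q : QQ, Φ p * Φ q = Φ q * Φ p ↔ triv (p * q * p⁻¹ * q⁻¹) := fun p q => by
    rw [← hker, ← dd_eq_one]
    simp [dd, map_mul]
  have mk : ∀ B : Subgroup QQ, Nat.card B = 16 → (∀ p ∈ B, triv (p * p) ∧ ∀ q ∈ B, triv (p * q * p⁻¹ * q⁻¹)) →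
      (∀ x : QQ, (∀ p ∈ B, triv (x * p * x⁻¹ * p⁻¹)) → x ∈ B) → Extra32 Q (B.map Φ) z := by
    intro B h16 hab hself
    have hzB : ((qz, 1) : QQ) ∈ B := hself _ fun p _ => Or.inl (by
      have hzc : ∀ g : QuaternionGroup 2, qz * g * qz⁻¹ * g⁻¹ = 1 := by decide +kernel
      exact Prod.ext (hzc p.1) (by simp))
    have hQmem : ∀ p, Φ p ∈ Q := fun p => hrange ▸ ⟨p, rfl⟩
    refine ⟨hP, hQ32, ?_, ?_, Subgroup.mem_map_of_mem Φ hzB, ?_, ?_, ?_, ?_, ?_, ?_, ?_, ?_, ?_, hC⟩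
    · rintro _ ⟨p, -, rfl⟩; exact hQmem p
    · have hkB : ((qz, qz) : QQ) ∈ B := hself _ fun p _ => Or.inl (by
        have hzc : ∀ g : QuaternionGroup 2, qz * g * qz⁻¹ * g⁻¹ = 1 := by decide +kernel
        exact Prod.ext (hzc p.1) (hzc p.2))
      have hk : (Φ.comp B.subtype).ker.map B.subtype = zpowers ((qz, qz) : QQ) := by
        refine le_antisymm ?_ (zpowers_le.2 ⟨⟨_, hkB⟩, (hker _).2 (Or.inr rfl), rfl⟩)
        rintro _ ⟨p, hp, rfl⟩
        rcases (hker _).1 hp with h | h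
        · exact (show B.subtype p = 1 from h) ▸ one_mem _
        · exact (show B.subtype p = (qz, qz) from h) ▸ mem_zpowers _
      have h1 := (Φ.comp B.subtype).ker.card_mul_index
      rw [index_ker, MonoidHom.range_comp, range_subtype, h16, ← card_map_of_injective B.subtype_injective, hk,
        card_zpowers_invol (by decide) (by decide)] at h1
      omega
    · rw [hz, ← map_mul, show ((qz, 1) : QQ) * (qz, 1) = 1 by decide, map_one]
    · exact fun h => absurd ((hker _).1 h) (by decide)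
    · rintro _ ⟨p, hp, rfl⟩ _ ⟨q, hq, rfl⟩
      exact (htriv p q).2 ((hab p hp).2 q hq)
    · rintro _ ⟨p, hp, rfl⟩
      rw [← map_mul]
      exact (hker _).2 (hab p hp).1
    · intro a ha b hb
      rw [← hrange] at ha hb
      obtain ⟨p, rfl⟩ := ha
      obtain ⟨q, rfl⟩ := hb
      rw [show dd (Φ p) (Φ q) = Φ (p * q * p⁻¹ * q⁻¹) by simp [dd, map_mul]]
      exact hZ _ (q_dd p.1 q.1) (q_dd p.2 q.2)
    · intro a ha
      rw [← hrange] at ha
      obtain ⟨p, rfl⟩ := ha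
      rw [← map_mul]
      exact hZ _ (q_sq p.1) (q_sq p.2)
    · intro a ha hall
      rw [← hrange] at ha
      obtain ⟨p, rfl⟩ := ha
      refine hZ _ (q_center _ fun g => ?_) (q_center _ fun g => ?_)
      · rcases (htriv p (g, 1)).1 (hall _ (hQmem _)) with h | h
        · exact mul_inv_eq_iff_eq_mul.1 (mul_inv_eq_one.1 (congrArg Prod.fst h))
        · have h2 : (1 : QuaternionGroup 2) = qz := by simpa using congrArg Prod.snd h
          exact absurd h2 (by decide)
      · rcases (htriv p (1, g)).1 (hall _ (hQmem _)) with h | h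
        · exact mul_inv_eq_iff_eq_mul.1 (mul_inv_eq_one.1 (congrArg Prod.snd h))
        · have h2 : (1 : QuaternionGroup 2) = qz := by simpa using congrArg Prod.fst h
          exact absurd h2 (by decide)
    · intro q hq
      rw [← hrange] at hq
      obtain ⟨p, rfl⟩ := hq
      refine (htriv (qz, 1) p).2 (Or.inl ?_)
      have hzc : ∀ g : QuaternionGroup 2, qz * g * qz⁻¹ * g⁻¹ = 1 := by decide +kernel
      exact Prod.ext (hzc p.1) (by simp)
    · intro a ha hall
      rw [← hrange] at ha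
      obtain ⟨p, rfl⟩ := ha
      exact Subgroup.mem_map_of_mem Φ (hself p fun q hq => (htriv p q).1 (hall _ (Subgroup.mem_map_of_mem Φ hq)))
  have E := mk graphOne graph_card.1 graph_abelian.1 graph_self.1
  have E' := mk graphTwo graph_card.2 graph_abelian.2 graph_self.2
  have hinf : graphOne.map Φ ⊓ graphTwo.map Φ ≤ zpowers z := by
    rintro a ⟨⟨p, hp, rfl⟩, ⟨q, hq, e⟩⟩
    have hk : ((qz, qz) : QQ) ∈ graphTwo := by decide +kernel
    have h1 : triv (q⁻¹ * p) := (hker _).1 (by rw [map_mul, map_inv, e, inv_mul_cancel])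
    have hp' : p ∈ graphTwo := by
      rcases h1 with h | h
      · rw [inv_mul_eq_one] at h; exact h ▸ hq
      · rw [inv_mul_eq_iff_eq_mul] at h; rw [h]; exact Subgroup.mul_mem _ hq hk
    obtain ⟨h2, h3⟩ := graph_inf p hp hp'
    exact hZ p h2 h3
  rcases E.self_central_or E' hinf with h | h
  · exact sectional_of_self_central hP _ E.comm E.sqA E.card8 h
  · exact sectional_of_self_central hP _ E'.comm E'.sqA E'.card8 h

end CfsgLib.PGroup.SelfEight
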